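import Groth.Agent.AlgSpB.GrpField.Descend

/-!
# The fibre over a field point in the base change to an extension field
-/

universe u

open CategoryTheory CategoryTheory.Limits AlgebraicGeometry Opposite TensorProduct

set_option backward.isDefEq.respectTransparency false
set_option backward.isDefEq.respectTransparency.types false
set_option autoImplicit false

namespace Groth.Agent.AlgSpB.GrpField

open _root_.AlgSp Groth.Agent.AlgSp

variable {k : Type u} [Field k]

/-- The spectrum of `L ⊗ κ` covers the fibre over the point of a `κ`-valued point. -/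
theorem exists_fibre_cover (L κ : Type u) [Field L] [Field κ] [Algebra k L] [Algebra k κ]
    (X : Space (Spec (CommRingCat.of k))) (g : (yon _).obj (extObj k κ) ⟶ X.obj) :
    ∃ (Ro : Over (Spec (CommRingCat.of k))) (hR : Spec (CommRingCat.of (L ⊗[k] κ)) ≅ Ro.left) (rL : Ro ⟶ extObj k L)
      (gF : (yon _).obj Ro ⟶ X.obj ⨯ (yon _).obj (extObj k L)),
      hR.hom ≫ rL.left = Spec.map (CommRingCat.ofHom Algebra.TensorProduct.includeLeftRingHom) ∧
      gF ≫ prod.snd = (yon _).map rL ∧
      (∀ r, Points.map prod.fst (Points.ofPt gF r) = Points.ofPt g (IsLocalRing.closedPoint κ)) ∧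
      ∀ f, Points.map prod.fst f = Points.ofPt g (IsLocalRing.closedPoint κ) → ∃ r, Points.ofPt gF r = f := by
  let S := Spec (CommRingCat.of k)
  let hT := LimSepAbs.isTerminalBase (S := S)
  let Lo := extObj k L
  let Ko := extObj k κ
  let Ro : Over S := Over.mk (Spec.map (CommRingCat.ofHom (algebraMap k (L ⊗[k] κ))))
  let rL : Ro ⟶ Lo := Over.homMk (Spec.map (CommRingCat.ofHom (Algebra.TensorProduct.includeLeftRingHom))) (by
    refine (Spec.map_comp _ _).symm.trans (congrArg Spec.map (CommRingCat.hom_ext (RingHom.ext fun r => ?_)))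
    rfl)
  let rM : Ro ⟶ Ko := Over.homMk
    (Spec.map (CommRingCat.ofHom (Algebra.TensorProduct.includeRight (R := k) (A := L) (B := κ)).toRingHom)) (by
    refine (Spec.map_comp _ _).symm.trans (congrArg Spec.map (CommRingCat.hom_ext (RingHom.ext fun r => ?_)))
    exact (Algebra.TensorProduct.includeRight (R := k) (A := L) (B := κ)).commutes r)
  have sR : IsPullback ((yon S).map rL) ((yon S).map rM) (hT.from _) (hT.from _) := by
    have h0 : IsPullback rL rM (Over.homMk Lo.hom (Category.comp_id _) : Lo ⟶ Over.mk (𝟙 S))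
        (Over.homMk Ko.hom (Category.comp_id _) : Ko ⟶ Over.mk (𝟙 S)) := by
      refine IsPullback.of_map (Over.forget S) (Over.OverMorphism.ext ((Over.w rL).trans (Over.w rM).symm)) ?_
      exact isPullback_SpecMap_of_isPushout _ _ _ _ (CommRingCat.isPushout_tensorProduct k L κ)
    have h1 := h0.map (yon S)
    rwa [hT.hom_ext ((yon S).map _) (hT.from _), hT.hom_ext ((yon S).map (Over.homMk Ko.hom _ : Ko ⟶ _)) (hT.from _)] at h1
  let gF : (yon S).obj Ro ⟶ X.obj ⨯ (yon S).obj Lo := prod.lift ((yon S).map rM ≫ g) ((yon S).map rL)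
  have sF : IsPullback gF ((yon S).map rM) prod.fst g := by
    refine IsPullback.of_right (h₁₂ := prod.snd) (h₂₂ := hT.from X.obj) (v₁₃ := hT.from _) ?_
      (prod.lift_fst _ _) (IsPullback.of_is_product (prodIsProd X.obj ((yon S).obj Lo)) hT).flip
    rw [prod.lift_snd, hT.hom_ext (g ≫ _) (hT.from _)]
    exact sR
  have hKs : Subsingleton Ko.left := inferInstanceAs (Subsingleton (PrimeSpectrum κ))
  refine ⟨Ro, Iso.refl _, rL, gF, Category.id_comp _, prod.lift_snd _ _, fun r => ?_, fun f hf => ?_⟩
  · rw [Points.map_ofPt, prod.lift_fst, ofPt_map_comp]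
    exact congrArg _ (Subsingleton.elim _ _)
  · obtain ⟨q, hq, -⟩ := exists_of_isPullback sF f (Points.ofScheme Ko (IsLocalRing.closedPoint κ))
      (by rw [← Points.ofPt_eq_map_ofScheme]; exact hf)
    exact ⟨Points.toScheme Ro q, by rw [Points.ofPt_eq_map_ofScheme, Points.ofScheme_toScheme, hq]⟩

/-- A space all of whose points have scheme neighbourhoods is a scheme. -/
theorem isRepresentable_of_forall_nhd {S : Scheme.{u}} (X : Space S)
    (h : ∀ x : Points X.obj, ∃ (X' : Space S) (j : X' ⟶ X), RepWith @IsOpenImmersion j.hom ∧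
      X'.obj.obj.IsRepresentable ∧ x ∈ Set.range (Points.map j.hom)) : X.obj.obj.IsRepresentable := by
  obtain ⟨X', j, hj, hjrep, hmax⟩ := exists_largest_open_subscheme X
  have hall : ∀ x, x ∈ Set.range (Points.map j.hom) := fun x => by
    obtain ⟨X'', j'', hj'', hrep'', hx''⟩ := h x
    obtain ⟨l, hl⟩ := hmax X'' j'' hj'' hrep''
    obtain ⟨y, hy⟩ := hx''
    exact ⟨Points.map l.hom y, by rw [← Points.map_comp]; exact (congrArg (fun f => Points.map f.hom y) hl).trans hy⟩
  obtain ⟨l, hl⟩ := (exists_factor_isOpenImmersion_iff hj (𝟙 _)).2 fun x _ => hall x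
  have := mono_of_isOpenImmersion hj
  obtain ⟨Z', ⟨e⟩⟩ := exists_iso_of_isRepresentable hjrep
  exact isRepresentable_of_iso (e ≪≫ ⟨j.hom, l, (cancel_mono j.hom).1
    (by rw [Category.assoc, hl]; exact (Category.comp_id _).trans (Category.id_comp _).symm), hl⟩)

/-- An affine open of the representing scheme through finitely many points gives a scheme neighbourhood. -/
theorem exists_scheme_nhd_of_finite {L : Type u} [Field L] [Algebra k L] [Algebra.IsAlgebraic k L]
    (X : Space (Spec (CommRingCat.of k))) {T : Over (Spec (CommRingCat.of k))}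
    (e : (yon _).obj T ≅ X.obj ⨯ (yon _).obj (extObj k L)) (x : Points X.obj)
    (hfin : {f : Points (X.obj ⨯ (yon _).obj (extObj k L)) | Points.map prod.fst f = x}.Finite)
    (W : T.left.Opens) (hW : IsAffineOpen W)
    (h : ∀ f, Points.map prod.fst f = x → Points.toScheme T (Points.map e.inv f) ∈ W) :
    ∃ (X' : Space (Spec (CommRingCat.of k))) (j : X' ⟶ X), RepWith @IsOpenImmersion j.hom ∧
      X'.obj.obj.IsRepresentable ∧ x ∈ Set.range (Points.map j.hom) := by
  let V : Over (Spec (CommRingCat.of k)) := Over.mk (W.ι ≫ T.hom)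
  have : IsAffine V.left := hW
  let i : V ⟶ T := Over.homMk W.ι rfl
  have hj : RepWith @IsOpenImmersion ((yon _).map i ≫ e.hom) :=
    (MorphismProperty.cancel_right_of_respectsIso (RepWith @IsOpenImmersion : MorphismProperty (Sp _)) _ _).2
      ((repWith_yon_map_iff _ i).2 (inferInstanceAs (IsOpenImmersion W.ι)))
  refine exists_scheme_nhd_of_preimage X x _ hj (fun f hf => ?_) hfin
  refine ⟨Points.ofScheme V ⟨_, h f hf⟩, ?_⟩
  rw [← Points.ofPt_eq_map_ofScheme, ofPt_map_comp, Points.ofPt_eq_map_ofScheme]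
  change Points.map e.hom (Points.ofScheme T (Points.toScheme T (Points.map e.inv f))) = f
  rw [Points.ofScheme_toScheme, ← Points.map_comp, e.inv_hom_id, Points.map_id]

end Groth.Agent.AlgSpB.GrpField
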