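import Groth.Agent.AlgSpB.GrpField.OverField
import Groth.Agent.S10520
import Groth.Agent.AlgSp.LimAffineMor
import Groth.Agent.AlgSpCov.LocP

/-!
# Scheme neighbourhoods from affine opens over an algebraic extension, without separation hypotheses
-/

universe u

open CategoryTheory CategoryTheory.Limits AlgebraicGeometry Opposite TensorProduct

set_option backward.isDefEq.respectTransparency false
set_option backward.isDefEq.respectTransparency.types false
set_option autoImplicit false

namespace Groth.Agent.AlgSpB.GrpField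

open _root_.AlgSp Groth.Agent.AlgSp

variable {k L : Type u} [Field k] [Field L] [Algebra k L]

/-- An isomorphism is quasi-compact on diagonals. -/
theorem repWith_quasiCompact_of_isIso {S : Scheme.{u}} {A B : Sp S} (f : A ⟶ B) [IsIso f] :
    RepWith @QuasiCompact f := by
  refine ⟨Functor.relativelyRepresentable.of_isIso (F := yon S) _, fun _ _ g fst snd sq => ?_⟩
  have : IsIso ((yon S).map snd) := sq.isIso_snd_of_isIso
  have : IsIso snd := isIso_of_reflects_iso _ (yon S)
  have : IsIso snd.left := inferInstanceAs (IsIso ((Over.forget S).map snd))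
  exact (inferInstance : QuasiCompact snd.left)

/-- The projection to the first factor from the product with the spectrum of an algebraic extension is integral. -/
theorem repWith_integral_fst [Algebra.IsAlgebraic k L] (Y : Sp (Spec (CommRingCat.of k))) :
    RepWith @IsIntegralHom (prod.fst : Y ⨯ (yon _).obj (extObj k L) ⟶ Y) := by
  let hT := LimSepAbs.isTerminalBase (S := Spec (CommRingCat.of k))
  have sq : IsPullback prod.fst prod.snd (hT.from Y) (hT.from ((yon _).obj (extObj k L))) :=
    IsPullback.of_is_product (prodIsProd _ _) hT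
  refine MorphismProperty.of_isPullback sq.flip ?_
  rw [hT.hom_ext (hT.from _) ((yon _).map (Over.homMk (extObj k L).hom (Category.comp_id _) :
    extObj k L ⟶ Over.mk (𝟙 _)))]
  refine (repWith_yon_map_iff _ _).2 ?_
  have : Algebra.IsIntegral k L := Algebra.IsAlgebraic.isIntegral
  exact IsIntegralHom.SpecMap_iff.2 (algebraMap_isIntegral_iff.2 this)

/-- Quasi-separatedness descends from a field extension. -/
theorem isQuasiSeparatedSp_of_prod {Y : Sp (Spec (CommRingCat.of k))} (hY : IsAlgSpace Y)
    (h : IsQuasiSeparatedSp (Y ⨯ (yon _).obj (extObj k L))) : IsQuasiSeparatedSp Y := by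
  let S := Spec (CommRingCat.of k)
  let hT := LimSepAbs.isTerminalBase (S := S)
  let Lo := extObj k L
  let g : (yon S).obj Lo ⟶ (yon S).obj (Over.mk (𝟙 S)) := (yon S).map (Over.homMk Lo.hom (Category.comp_id _))
  have : IsAffine Lo.left := inferInstanceAs (IsAffine (Spec _))
  have : IsAffine (Over.mk (𝟙 S)).left := inferInstanceAs (IsAffine (Spec _))
  have hfl : Flat Lo.hom := Groth.Agent.AlgSpB.flat_of_field _
  have hcov : IsFpqcCover (fun _ : PUnit.{u + 1} => (yon S).obj Lo) (fun _ => g) := by
    refine ⟨fun _ => Groth.Agent.AlgSpCov.locP_of_repWith Groth.Agent.AlgSpCov.etaleLocal_flat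
      ((repWith_yon_map_iff _ _).2 hfl), fun Z hZ z => ?_⟩
    obtain ⟨z', rfl⟩ := (yon S).map_surjective z
    obtain ⟨W, fst, snd, sqW⟩ := exists_pullback_yon
      (a := (yon S).map (Over.homMk Lo.hom (Category.comp_id _) : Lo ⟶ Over.mk (𝟙 S))) (representable_yon_map _) ((yon S).map z')
    have sl : IsPullback fst.left snd.left Lo.hom z'.left :=
      (IsPullback.of_map (yon S) ((yon S).map_injective (by rw [Functor.map_comp, Functor.map_comp]; exact sqW.w)) sqW).map
        (Over.forget S)
    have : IsAffineHom snd.left := MorphismProperty.of_isPullback sl (inferInstanceAs (IsAffineHom (Spec.map _)))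
    have : Flat snd.left := MorphismProperty.of_isPullback sl hfl
    have : Surjective Lo.hom := ⟨fun y => ⟨Classical.arbitrary (PrimeSpectrum L),
      @Subsingleton.elim _ (inferInstanceAs (Subsingleton (PrimeSpectrum k)) : Subsingleton S) _ _⟩⟩
    have : Surjective snd.left := MorphismProperty.of_isPullback sl ‹Surjective Lo.hom›
    exact ⟨1, fun _ => W, fun _ => snd, fun _ => isAffine_of_isAffineHom snd.left, fun _ => ‹_›,
      fun z => ⟨0, snd.left.surjective z⟩, fun _ => ⟨PUnit.unit, (yon S).map fst, sqW.w⟩⟩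
  have sq : IsPullback (prod.fst : Y ⨯ (yon S).obj Lo ⟶ Y) prod.snd (hT.from Y) g := by
    rw [hT.hom_ext g (hT.from _)]
    exact IsPullback.of_is_product (prodIsProd _ _) hT
  have hP : IsAlgSpace (Y ⨯ (yon S).obj Lo) :=
    Groth.Agent.AlgSp.isAlgSpace_of_isPullback' (IsAlgSpace.yon_obj _) hY (IsAlgSpace.yon_obj Lo) sq
  refine (LimSepAbs.diag_prop_iff @QuasiCompact Y hT (hT.from Y)).1 ?_
  refine (Groth.Agent.S10520.result S (fun _ : PUnit.{u + 1} => (yon S).obj Lo) (fun _ => g) (IsAlgSpace.yon_obj _)
    (fun _ => IsAlgSpace.yon_obj Lo) hcov (hT.from Y) hY (fun _ => _) (fun _ => prod.snd) (fun _ => prod.fst)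
    (fun _ => hP) (fun _ => sq)).2 fun _ => ?_
  -- the diagonal over the extension
  let P := Y ⨯ (yon S).obj Lo
  let m : pullback (prod.snd : P ⟶ _) (prod.snd : P ⟶ _) ⟶ P ⨯ P := prod.lift (pullback.fst _ _) (pullback.snd _ _)
  have : Mono m := ⟨fun a b e => by
    apply pullback.hom_ext
    · simpa [m] using congrArg (fun k => k ≫ prod.fst) e
    · simpa [m] using congrArg (fun k => k ≫ prod.snd) e⟩
  have e : pullback.diagonal (prod.snd : P ⟶ _) ≫ m = Limits.diag P := by
    apply prod.hom_ext <;> simp [m] <;> rfl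
  have sqd : IsPullback (pullback.diagonal (prod.snd : P ⟶ _)) (𝟙 P) m (Limits.diag P) :=
    IsPullback.of_isLimit' ⟨by rw [e, Category.id_comp]⟩ (PullbackCone.IsLimit.mk _
      (fun c => c.snd) (fun c => (cancel_mono m).1 (by rw [Category.assoc, e]; exact c.condition.symm))
      (fun c => Category.comp_id _) (fun c m _ hm => (Category.comp_id _).symm.trans hm))
  change RepWith @QuasiCompact (pullback.diagonal _)
  exact MorphismProperty.of_isPullback sqd.flip h

set_option maxHeartbeats 800000 in
/-- A point whose preimages over an algebraic extension lie in an affine open has a scheme neighbourhood. -/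
theorem exists_scheme_nhd_of_preimage [Algebra.IsAlgebraic k L] (X : Space (Spec (CommRingCat.of k))) (x : Points X.obj)
    {V : Over (Spec (CommRingCat.of k))} [IsAffine V.left] (jV : (yon _).obj V ⟶ X.obj ⨯ (yon _).obj (extObj k L))
    (hjV : RepWith @IsOpenImmersion jV)
    (hV : ∀ f, Points.map prod.fst f = x → f ∈ Set.range (Points.map jV))
    (hfin : {f : Points (X.obj ⨯ (yon _).obj (extObj k L)) | Points.map prod.fst f = x}.Finite) :
    ∃ (X' : Space (Spec (CommRingCat.of k))) (j : X' ⟶ X), RepWith @IsOpenImmersion j.hom ∧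
      X'.obj.obj.IsRepresentable ∧ x ∈ Set.range (Points.map j.hom) := by
  let S := Spec (CommRingCat.of k)
  let hT := LimSepAbs.isTerminalBase (S := S)
  let Lo := extObj k L
  let E : Set (Points X.obj) := (Points.map (prod.fst : X.obj ⨯ (yon S).obj Lo ⟶ X.obj) '' (Set.range (Points.map jV))ᶜ)ᶜ
  have hcl : IsClosed (Points.map (prod.fst : X.obj ⨯ (yon S).obj Lo ⟶ X.obj) '' (Set.range (Points.map jV))ᶜ) := by
    suffices h : IsClosedMap (Points.map (prod.fst : X.obj ⨯ (yon S).obj Lo ⟶ X.obj)) from
      h _ (Groth.Agent.AlgSpB.isOpen_range_of_isOpenImmersion hjV).isClosed_compl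
    intro C hC
    rw [← isOpen_compl_iff, Points.isOpen_iff]
    intro T g
    obtain ⟨W, snd, fst, sq⟩ := (repWith_integral_fst (L := L) X.obj).1 g
    have : IsIntegralHom snd.left := (repWith_integral_fst (L := L) X.obj).2 _ _ _ sq
    have : Points.ofPt g ⁻¹' (Points.map (prod.fst : X.obj ⨯ (yon S).obj Lo ⟶ X.obj) '' C)ᶜ =
        (snd.left '' (Points.ofPt fst ⁻¹' C))ᶜ := by
      ext t
      refine not_congr ⟨?_, ?_⟩
      · rintro ⟨p, hp, hpt⟩
        rw [Points.ofPt_eq_map_ofScheme] at hpt
        obtain ⟨w, hw1, hw2⟩ := exists_of_isPullback sq p _ hpt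
        rw [← Points.ofScheme_toScheme W w, ← Points.ofPt_eq_map_ofScheme] at hw1 hw2
        refine ⟨Points.toScheme W w, ?_, ?_⟩
        · change Points.ofPt fst _ ∈ C
          rw [hw1]; exact hp
        · rw [← Points.toScheme_ofPt, hw2, Points.toScheme_ofScheme]
      · rintro ⟨w, hw, rfl⟩
        exact ⟨_, hw, by rw [Points.map_ofPt, sq.w, ofPt_map_comp]⟩
    rw [this]
    exact (snd.left.isClosedMap _ (hC.preimage (Points.continuous_ofPt fst))).isOpen_compl
  obtain ⟨Y₀, j, hj, hjr⟩ := exists_openSubspace X (W := E) hcl.isOpen_compl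
  have := mono_of_isOpenImmersion hj
  have hxE : x ∈ E := fun ⟨f, hf, hfx⟩ => hf (hV f hfx)
  -- the preimage is an open of the affine scheme
  let m := prod.map j.hom (𝟙 ((yon S).obj Lo))
  have hm : RepWith @IsOpenImmersion m :=
    MorphismProperty.of_isPullback (IsPullback.of_prod_fst_with_id j.hom _) hj
  have hmV : ∀ f, Points.map m f ∈ Set.range (Points.map jV) := fun f => by
    by_contra hc
    have hfE : Points.map prod.fst (Points.map m f) ∈ E := by
      rw [← Points.map_comp, prod.map_fst, Points.map_comp, ← hjr]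
      exact Set.mem_range_self _
    exact hfE ⟨_, hc, rfl⟩
  obtain ⟨l, hl⟩ := (exists_factor_isOpenImmersion_iff hjV m).2 (by rintro _ ⟨f, rfl⟩; exact hmV f)
  have := mono_of_isOpenImmersion hjV
  have hlO : RepWith @IsOpenImmersion l := repWith_of_comp_mono l jV (by rw [hl]; exact hm)
  have : QuasiSeparatedSpace S := inferInstanceAs (QuasiSeparatedSpace (Spec _))
  have hqs : IsQuasiSeparatedSp (Y₀.obj ⨯ (yon S).obj Lo) := by
    have := mono_of_isOpenImmersion hlO
    refine LimAffine.isQuasiSeparatedSp_of_mor l ?_ (LimAffineMor.isQuasiSeparatedSp_yon V)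
    have : IsIso (pullback.diagonal l) := (pullback.isIso_diagonal_iff l).2 inferInstance
    exact repWith_quasiCompact_of_isIso _
  have hY₀ := isQuasiSeparatedSp_of_prod (L := L) Y₀.property hqs
  obtain ⟨x₀, hx₀⟩ : x ∈ Set.range (Points.map j.hom) := hjr.symm ▸ hxE
  -- an affine open of `Y₀ ×_k L` containing the fibre
  have : IsAffine Lo.left := inferInstanceAs (IsAffine (Spec _))
  have : Subsingleton Lo.left := inferInstanceAs (Subsingleton (PrimeSpectrum L))
  let F : Set ↥V.left := {v | Points.map prod.fst (Points.ofPt jV v) = x}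
  let O : V.left.Opens := ⟨Points.ofPt jV ⁻¹' Set.range (Points.map m),
    (isOpen_range_of_isOpenImmersion hm).preimage (Points.continuous_ofPt jV)⟩
  have hFO : F ⊆ O := fun v hv => by
    obtain ⟨f, hf, -⟩ := exists_of_isPullback (IsPullback.of_prod_fst_with_id j.hom ((yon S).obj Lo)) x₀
      (Points.ofPt jV v) (by rw [hx₀]; exact hv.symm)
    obtain ⟨f', -, hf'⟩ := exists_of_isPullback (IsPullback.of_prod_fst_with_id j.hom ((yon S).obj Lo)) x₀
      (Points.ofPt jV v) (by rw [hx₀]; exact hv.symm)
    exact ⟨f', hf'⟩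
  have hFf : F.Finite := Set.Finite.of_injOn (f := Points.ofPt jV) (fun v hv => hv) (fun v _ w _ h => by
    rw [Points.ofPt_eq_map_ofScheme, Points.ofPt_eq_map_ofScheme] at h
    simpa using congrArg (Points.toScheme V) (injective_map_of_mono jV h)) hfin
  obtain ⟨X', j', hj', hrep, hx'⟩ : ∃ (X' : Space S) (j' : X' ⟶ Y₀), RepWith @IsOpenImmersion j'.hom ∧
      X'.obj.obj.IsRepresentable ∧ x₀ ∈ Set.range (Points.map j'.hom) := by
    obtain ⟨g, hgO, hgF⟩ : ∃ g : Γ(V.left, ⊤), V.left.basicOpen g ≤ O ∧ F ⊆ V.left.basicOpen g := by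
      obtain ⟨g, h1, h2⟩ := GrpdLib.exists_basicOpen_le_of_finite (isAffineOpen_top V.left) (U := O) (O := F)
        hFf hFO (fun _ _ => trivial)
      exact ⟨g, h1, h2⟩
    let Vg : Over S := Over.mk ((V.left.basicOpen g).ι ≫ V.hom)
    let ig : Vg ⟶ V := Over.homMk (V.left.basicOpen g).ι rfl
    have : IsAffine Vg.left := (isAffineOpen_top V.left).basicOpen g
    obtain ⟨a, ha⟩ := exists_lift_yon_of_isOpenImmersion hm ((yon S).map ig ≫ jV) (by
      rintro _ ⟨w, rfl⟩
      rw [ofPt_map_comp]
      exact hgO w.2)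
    have haO : RepWith @IsOpenImmersion a := by
      have := mono_of_isOpenImmersion hm
      refine repWith_of_comp_mono a m ?_
      rw [ha]
      exact (RepWith @IsOpenImmersion : MorphismProperty (Sp S)).comp_mem _ _
        ((repWith_yon_map_iff _ ig).2 (inferInstanceAs (IsOpenImmersion (V.left.basicOpen g).ι))) hjV
    refine exists_scheme_nhd_of_affine_fibre Y₀ hY₀ x₀ a haO fun f hf => ?_
    obtain ⟨v, hv⟩ := hV (Points.map m f) (by rw [← Points.map_comp, prod.map_fst, Points.map_comp, hf, hx₀])
    rw [← Points.ofScheme_toScheme V v, ← Points.ofPt_eq_map_ofScheme] at hv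
    have hvF : Points.toScheme V v ∈ F := by
      change Points.map prod.fst (Points.ofPt jV _) = x
      rw [hv, ← Points.map_comp, prod.map_fst, Points.map_comp, hf, hx₀]
    refine ⟨Points.ofScheme Vg ⟨_, hgF hvF⟩, ?_⟩
    refine @injective_map_of_mono _ _ _ m (mono_of_isOpenImmersion hm) _ _ ?_
    rw [← Points.map_comp, ha, ← Points.ofPt_eq_map_ofScheme, ofPt_map_comp]
    exact hv
  exact ⟨X', j' ≫ j, (RepWith @IsOpenImmersion : MorphismProperty (Sp S)).comp_mem _ _ hj' hj, hrep, by
    obtain ⟨y, hy⟩ := hx'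
    exact ⟨y, (Points.map_comp j'.hom j.hom y).trans ((congrArg _ hy).trans hx₀)⟩⟩

end Groth.Agent.AlgSpB.GrpField
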