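import Groth.Agent.AlgSpB.Art.GenericScheme
import Groth.Prelude.Def_AlgSpMor5

/-!
# The schematic locus and finite locally free covers
-/

universe u

open CategoryTheory CategoryTheory.Limits AlgebraicGeometry TopologicalSpace

set_option backward.isDefEq.respectTransparency false
set_option backward.isDefEq.respectTransparency.types false
set_option autoImplicit false

namespace Groth.Agent.AlgSpB.GrpField

open _root_.AlgSp

variable {S : Scheme.{u}}

/-- A space with a finite locally free surjective chart whose fibres lie in affines is a scheme. -/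
theorem isRepresentable_of_finLocFree (Y : Space S) {U : Over S} (a : (yon S).obj U ⟶ Y.obj)
    (hf : IsFinLocFreeMor a) (hs : RepWith @Surjective a)
    (horb : ∀ u : U.left, ∃ W : U.left.Opens, IsAffineOpen W ∧
      ∀ u' : U.left, Points.ofPt a u' = Points.ofPt a u → u' ∈ W) : Y.obj.obj.IsRepresentable := by
  obtain ⟨R, t, s, hR⟩ := exists_pullback_yon hf.1 a
  have heq : IsEqvRel s t := isEqvRel_of_isPullback hR
  have : IsFinite s.left := (hf.2 _ _ _ hR).1
  have : Flat s.left := (hf.2 _ _ _ hR).2.1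
  have : LocallyOfFinitePresentation s.left := (hf.2 _ _ _ hR).2.2
  obtain ⟨M, q, h1, h2, h3, h4, hq⟩ := Art.exists_finLocFree_quotient t s heq fun u => by
    obtain ⟨W, hW, hu⟩ := horb u
    refine ⟨W, hW, fun r hr => hu _ ?_⟩
    rw [← hr, ← ofPt_map_comp, ← ofPt_map_comp, hR.w]
  have : Sheaf.IsLocallySurjective a := Groth.Agent.AlgSp.isLocallySurjective_of_repWith a
    (Groth.Agent.AlgSp.repWith_mono (fun g hg => hg.2.1) hf)
    (Groth.Agent.AlgSp.repWith_mono (fun g hg => hg.2.2) hf) hs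
  have : Sheaf.IsLocallySurjective ((yon S).map q) :=
    Groth.Agent.AlgSp.isLocallySurjective_of_repWith _
      ((repWith_yon_map_iff _ _).2 h2) ((repWith_yon_map_iff _ _).2 h3) ((repWith_yon_map_iff _ _).2 h4)
  obtain ⟨c1⟩ := Groth.Agent.AlgSp.isColimit_of_isPullback a hR
  obtain ⟨c2⟩ := Groth.Agent.AlgSp.isColimit_of_isPullback ((yon S).map q) hq
  let e : (yon S).obj M ≅ Y.obj := c2.coconePointUniqueUpToIso c1
  exact isRepresentable_of_iso e

/-- A representable finite morphism is closed on points. -/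
theorem isClosedMap_map_of_isFinite {F G : Sp S} (f : F ⟶ G) (hf : RepWith @IsFinite f) :
    IsClosedMap (Points.map f) := by
  intro E hE
  rw [← isOpen_compl_iff, Points.isOpen_iff]
  intro T g
  obtain ⟨W, snd, fst, sq⟩ := hf.1 g
  have : IsFinite snd.left := hf.2 _ _ _ sq
  have : Points.ofPt g ⁻¹' (Points.map f '' E)ᶜ = (snd.left '' (Points.ofPt fst ⁻¹' E))ᶜ := by
    ext t
    refine not_congr ⟨?_, ?_⟩
    · rintro ⟨x, hx, hxt⟩
      rw [Points.ofPt_eq_map_ofScheme] at hxt
      obtain ⟨w, hw1, hw2⟩ := exists_of_isPullback sq x _ hxt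
      rw [← Points.ofScheme_toScheme W w, ← Points.ofPt_eq_map_ofScheme] at hw1 hw2
      refine ⟨Points.toScheme W w, ?_, ?_⟩
      · change Points.ofPt fst _ ∈ E
        rw [hw1]; exact hx
      · rw [← Points.toScheme_ofPt, hw2, Points.toScheme_ofScheme]
    · rintro ⟨w, hw, rfl⟩
      exact ⟨_, hw, by rw [Points.map_ofPt, sq.w, ofPt_map_comp]⟩
  rw [this]
  exact (snd.left.isClosedMap _ (hE.preimage (Points.continuous_ofPt fst))).isOpen_compl

/-- A point is in the schematic locus if its fibre in a finite locally free cover lies in an affine open. -/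
theorem exists_scheme_nhd_of_fibre {X Y : Space S} (f : X ⟶ Y) (hf : IsFinLocFreeMor f.hom)
    (hs : RepWith @Surjective f.hom) (y : Points Y.obj) {U : Over S} [IsAffine U.left]
    (a : (yon S).obj U ⟶ X.obj) (ha : RepWith @IsOpenImmersion a)
    (hy : Points.map f.hom ⁻¹' {y} ⊆ Set.range (Points.ofPt a)) :
    ∃ (Y' : Space S) (j : Y' ⟶ Y), RepWith @IsOpenImmersion j.hom ∧ Y'.obj.obj.IsRepresentable ∧
      y ∈ Set.range (Points.map j.hom) := by
  have hra : Set.range (Points.map a) = Set.range (Points.ofPt a) := by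
    ext x
    refine ⟨fun ⟨p, hp⟩ => ⟨Points.toScheme U p, ?_⟩, fun ⟨t, ht⟩ => ⟨Points.ofScheme U t, ?_⟩⟩
    · rw [Points.ofPt_eq_map_ofScheme, Points.ofScheme_toScheme, hp]
    · rw [← Points.ofPt_eq_map_ofScheme, ht]
  let T : Set (Points Y.obj) := (Points.map f.hom '' (Set.range (Points.ofPt a))ᶜ)ᶜ
  have hT : IsOpen T := (isClosedMap_map_of_isFinite f.hom (Groth.Agent.AlgSp.repWith_mono (fun g hg => hg.1) hf) _
    (by rw [← hra]; exact (isOpen_range_of_isOpenImmersion ha).isClosed_compl)).isOpen_compl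
  have hyT : y ∈ T := fun ⟨x, hx, hxy⟩ => hx (hy hxy)
  obtain ⟨Y', j, hj, hjr⟩ := exists_openSubspace Y hT
  let W : U.left.Opens := ⟨Points.ofPt (a ≫ f.hom) ⁻¹' T, hT.preimage (Points.continuous_ofPt _)⟩
  let Wo : Over S := Over.mk (W.ι ≫ U.hom)
  let i : Wo ⟶ U := Over.homMk W.ι rfl
  let P := pullback f.hom j.hom
  have hP : RepWith @IsOpenImmersion (pullback.fst f.hom j.hom) :=
    MorphismProperty.of_isPullback (IsPullback.of_hasPullback f.hom j.hom).flip hj
  have hWX : RepWith @IsOpenImmersion ((yon S).map i ≫ a) :=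
    (RepWith @IsOpenImmersion : MorphismProperty (Sp S)).comp_mem _ _
      ((repWith_yon_map_iff _ i).2 (inferInstanceAs (IsOpenImmersion W.ι))) ha
  have := mono_of_isOpenImmersion hP
  have := mono_of_isOpenImmersion hWX
  obtain ⟨l, hl⟩ := (exists_factor_isOpenImmersion_iff hP ((yon S).map i ≫ a)).2 (by
    rintro _ ⟨w, rfl⟩
    have hw : Points.map f.hom (Points.map ((yon S).map i ≫ a) w) ∈ Set.range (Points.map j.hom) := by
      rw [hjr, ← Points.map_comp, ← Points.ofScheme_toScheme Wo w, ← Points.ofPt_eq_map_ofScheme,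
        Category.assoc, ofPt_map_comp]
      exact (Points.toScheme Wo w).2
    obtain ⟨z, hz⟩ := hw
    obtain ⟨p, hp, -⟩ := exists_of_isPullback (IsPullback.of_hasPullback f.hom j.hom) _ z hz.symm
    exact ⟨p, hp⟩)
  obtain ⟨m, hm⟩ := (exists_factor_isOpenImmersion_iff hWX (pullback.fst f.hom j.hom)).2 (by
    rintro _ ⟨p, rfl⟩
    have hp : Points.map f.hom (Points.map (pullback.fst f.hom j.hom) p) ∈ T := by
      rw [← Points.map_comp, pullback.condition, Points.map_comp, ← hjr]
      exact Set.mem_range_self _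
    obtain ⟨t, ht⟩ : Points.map (pullback.fst f.hom j.hom) p ∈ Set.range (Points.ofPt a) :=
      by_contra fun h => hp ⟨_, h, rfl⟩
    have htW : t ∈ W := by
      change Points.ofPt (a ≫ f.hom) t ∈ T
      rw [← Points.map_ofPt, ht]; exact hp
    exact ⟨Points.ofScheme Wo ⟨t, htW⟩, by rw [← Points.ofPt_eq_map_ofScheme, ofPt_map_comp]; exact ht⟩)
  let e : (yon S).obj Wo ≅ P :=
    ⟨l, m, (cancel_mono ((yon S).map i ≫ a)).1 (by rw [Category.assoc, hm, hl, Category.id_comp]),
      (cancel_mono (pullback.fst f.hom j.hom)).1 (by rw [Category.assoc, hl, hm, Category.id_comp])⟩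
  have he : IsIso e.hom := ⟨e.inv, e.hom_inv_id, e.inv_hom_id⟩
  let b : (yon S).obj Wo ⟶ Y'.obj := e.hom ≫ pullback.snd f.hom j.hom
  have hb : IsFinLocFreeMor b := by
    refine (MorphismProperty.cancel_left_of_respectsIso (RepWith finLocFree : MorphismProperty (Sp S)) _ _).2 ?_
    exact MorphismProperty.of_isPullback (IsPullback.of_hasPullback f.hom j.hom) hf
  have hbs : RepWith @Surjective b :=
    (MorphismProperty.cancel_left_of_respectsIso (RepWith @Surjective : MorphismProperty (Sp S)) _ _).2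
      (MorphismProperty.of_isPullback (IsPullback.of_hasPullback f.hom j.hom) hs)
  refine ⟨Y', j, hj, isRepresentable_of_finLocFree Y' b hb hbs (fun w₀ => ?_), hjr ▸ hyT⟩
  obtain ⟨R, t, s, hR⟩ := exists_pullback_yon hb.1 b
  have hsf : IsFinite s.left := (hb.2 _ _ _ hR).1
  let O : Set ↥U.left := W.ι '' {w | Points.ofPt b w = Points.ofPt b w₀}
  have hO : O.Finite := by
    refine (((s.left.finite_preimage_singleton w₀).image t.left).subset fun w hw => ?_).image _
    obtain ⟨r, h1, h2⟩ := (ofPt_eq_ofPt_iff hR w w₀).1 hw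
    exact ⟨r, h2, h1⟩
  obtain ⟨g, hgW, hgO⟩ := GrpdLib.exists_basicOpen_le_of_finite (isAffineOpen_top U.left) (U := W) (O := O)
    hO (fun u ⟨w, _, hw⟩ => hw ▸ w.2) (fun u _ => trivial)
  refine ⟨W.ι ⁻¹ᵁ U.left.basicOpen g, ((isAffineOpen_top U.left).basicOpen g).preimage_of_isOpenImmersion _
    (fun z hz => by rw [Scheme.Opens.opensRange_ι]; exact hgW hz), fun w' hw' => hgO ⟨w', hw', rfl⟩⟩

/-- The fibre of a point of the schematic locus in a finite cover lies in an affine open. -/
theorem exists_affine_of_scheme_nhd {X Y : Space S} (f : X ⟶ Y) (hf : IsFinLocFreeMor f.hom)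
    (y : Points Y.obj) {Y' : Space S} (j : Y' ⟶ Y) (hj : RepWith @IsOpenImmersion j.hom)
    (hrep : Y'.obj.obj.IsRepresentable) (hy : y ∈ Set.range (Points.map j.hom)) :
    ∃ (U : Over S) (a : (yon S).obj U ⟶ X.obj), IsAffine U.left ∧ RepWith @IsOpenImmersion a ∧
      Points.map f.hom ⁻¹' {y} ⊆ Set.range (Points.ofPt a) := by
  obtain ⟨Z, ⟨e⟩⟩ := exists_iso_of_isRepresentable hrep
  obtain ⟨y', rfl⟩ := hy
  obtain ⟨V, hV, hzV, -⟩ := exists_isAffineOpen_mem_and_subset
    (x := Points.toScheme Z (Points.map e.inv y')) (U := ⊤) trivial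
  let i : Over.mk (hV.fromSpec ≫ Z.hom) ⟶ Z := Over.homMk hV.fromSpec rfl
  obtain ⟨v, hv⟩ : Points.toScheme Z (Points.map e.inv y') ∈ Set.range hV.fromSpec := by
    rw [hV.range_fromSpec]; exact hzV
  have hg : RepWith @IsOpenImmersion ((yon S).map i ≫ e.hom ≫ j.hom) :=
    (RepWith @IsOpenImmersion : MorphismProperty (Sp S)).comp_mem _ _
      ((repWith_yon_map_iff _ i).2 (inferInstanceAs (IsOpenImmersion hV.fromSpec)))
      ((MorphismProperty.cancel_left_of_respectsIso (RepWith @IsOpenImmersion : MorphismProperty (Sp S)) _ _).2 hj)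
  obtain ⟨U, snd, fst, sq⟩ := hf.1 ((yon S).map i ≫ e.hom ≫ j.hom)
  have : IsFinite snd.left := (hf.2 _ _ _ sq).1
  have : IsAffine (Over.mk (hV.fromSpec ≫ Z.hom)).left := inferInstanceAs (IsAffine (Spec _))
  refine ⟨U, fst, isAffine_of_isAffineHom snd.left, MorphismProperty.of_isPullback sq.flip hg, fun x hx => ?_⟩
  have hxv : Points.map f.hom x = Points.map ((yon S).map i ≫ e.hom ≫ j.hom) (Points.ofScheme _ v) := by
    rw [← Points.ofPt_eq_map_ofScheme, ofPt_map_comp, show i.left v = _ from hv, Points.ofPt_eq_map_ofScheme,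
      Points.ofScheme_toScheme, Points.map_comp, ← Points.map_comp e.inv, e.inv_hom_id, Points.map_id]
    exact hx
  obtain ⟨w, hw, -⟩ := exists_of_isPullback sq x _ hxv
  exact ⟨Points.toScheme U w, by rw [Points.ofPt_eq_map_ofScheme, Points.ofScheme_toScheme, hw]⟩

end Groth.Agent.AlgSpB.GrpField
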