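import Groth.Agent.GrpScheme.IdComponent

/-!
# Translating a neighbourhood by the generic point of the identity component
-/

set_option autoImplicit false
set_option backward.isDefEq.respectTransparency false

universe u

open CategoryTheory MonoidalCategory CartesianMonoidalCategory MonObj GrpObj AlgebraicGeometry Limits

namespace Groth.Agent.AlgSpB.GrpField

open Groth.Agent.GrpScheme Groth.Agent.GrpScheme.IdComponent Groth.Agent.GrpScheme.Component

variable {K : Type u} [Field K] (G : Over (Spec (CommRingCat.of K))) [GrpObj G]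

theorem exists_generic_translate :
    ∃ g₀ : G.left, IsMaxGen g₀ ∧ g₀ ⤳ e₀ G ∧ (∀ z, z ⤳ e₀ G → g₀ ⤳ z) ∧
      ∀ (x a : G.left) (U : G.left.Opens), a ⤳ x → a ∈ U →
        ∃ (T : Over (Spec (CommRingCat.of K))) (t : T.left) (va vb : T ⟶ G),
          va.left t = g₀ ∧ vb.left t = x ∧ (va⁻¹ * vb).left t ∈ U := by
  obtain ⟨g₀, hg₀⟩ := QuasiSober.sober (isIrreducible_irreducibleComponent (x := e₀ G))
    isClosed_irreducibleComponent
  have hmax : IsMaxGen g₀ :=
    Component.isMaxGen_iff.mpr (hg₀.def.symm ▸ irreducibleComponent_mem_irreducibleComponents _)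
  have huniq : ∀ z, z ⤳ e₀ G → g₀ ⤳ z := fun z hz => by
    obtain ⟨w, hw⟩ := mem_range_of_specializes G hz
    exact hg₀.specializes (by rw [← range_zι]; exact ⟨w, hw⟩)
  refine ⟨g₀, hmax, hg₀.specializes mem_irreducibleComponent, huniq, fun x a U hax haU => ?_⟩
  obtain ⟨qq, hqU, hqx⟩ := mem_saturation_of_specializes G haU hax
  -- the translations of `x`
  let P := Points.pointObj G x
  let va : zObj G ⊗ P ⟶ G := fst (zObj G) P ≫ zι G
  let vb : zObj G ⊗ P ⟶ G := snd (zObj G) P ≫ Points.pointHom G x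
  have := irreducibleSpace_of_subsingleton (T := P.left)
  have := irreducibleSpace_tensor G P
  let O : Set (zObj G ⊗ P).left := (va⁻¹ * vb).left ⁻¹' U
  have hOne : O.Nonempty := by
    let pq := Points.pointHom (zObj G ⊗ G) qq
    obtain ⟨T', ⟨t'⟩, π, h, e⟩ := Points.exists_lift (Points.pointHom G x) (pq ≫ (zι G ▷ G) ≫ μ[G]) fun s => by
      rw [Points.comp_apply, Points.pointHom_apply, hqx]
      obtain ⟨t⟩ := (inferInstance : Nonempty P.left)
      exact ⟨t, Points.pointHom_apply G x t⟩
    refine ⟨(lift (π ≫ pq ≫ fst (zObj G) G) h).left t', ?_⟩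
    change (va⁻¹ * vb).left _ ∈ U
    rw [← Points.comp_apply, show lift (π ≫ pq ≫ fst (zObj G) G) h ≫ (va⁻¹ * vb) = π ≫ pq ≫ snd (zObj G) G by
      rw [MonObj.comp_mul, GrpObj.comp_inv, lift_fst_assoc, lift_snd_assoc, e,
        show (zι G ▷ G) ≫ μ[G] = (fst (zObj G) G ≫ zι G) * snd (zObj G) G by rw [Hom.mul_def]; congr 1,
        MonObj.comp_mul, MonObj.comp_mul]
      simp only [Category.assoc]
      exact inv_mul_cancel_left _ _]
    rw [Points.comp_apply, Points.comp_apply, Points.pointHom_apply]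
    exact hqU
  obtain ⟨t, ht⟩ := QuasiSober.sober (IrreducibleSpace.isIrreducible_univ (zObj G ⊗ P).left) isClosed_univ
  obtain ⟨o, ho⟩ := hOne
  refine ⟨_, t, va, vb, ?_, ?_, ?_⟩
  · obtain ⟨y, hy⟩ : g₀ ∈ Set.range (zι G).left := by rw [range_zι, ← hg₀.def]; exact subset_closure rfl
    obtain ⟨s⟩ := (inferInstance : Nonempty P.left)
    obtain ⟨r, hr, -⟩ := Scheme.Pullback.exists_preimage_pullback (f := (zObj G).hom) (g := P.hom) y s
      (Subsingleton.elim (α := Spec (CommRingCat.of K)) _ _)
    have h1 : va.left t ⤳ g₀ := by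
      have := (ht.specializes (Set.mem_univ r)).map va.left.continuous
      rwa [show va.left r = g₀ by rw [Points.comp_apply, show (fst (zObj G) P).left r = y from hr, hy]] at this
    exact hmax _ h1
  · rw [Points.comp_apply, Points.pointHom_apply]
  · exact (ht.specializes (Set.mem_univ o)).mem_open ((va⁻¹ * vb).left.continuous.isOpen_preimage _ U.2) ho

end Groth.Agent.AlgSpB.GrpField
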