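import Groth.Agent.AlgSpB.BigField.Descent
import Mathlib.RingTheory.Spectrum.Prime.Chevalley
import Mathlib.RingTheory.HopkinsLevitzki
import Mathlib.RingTheory.TensorProduct.Quotient
import Mathlib.LinearAlgebra.TensorProduct.Basis
import Mathlib.RingTheory.EssentialFiniteness
import Mathlib.FieldTheory.IntermediateField.Adjoin.Algebra

/-!
# Rational parameters which are good for all points of `M ⊗ L`
-/

universe u

open TensorProduct PrimeSpectrum

set_option autoImplicit false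

namespace Groth.Agent.AlgSpB.GrpField

variable {k L M A : Type u} [Field k] [Field L] [Field M] [Algebra k L] [Algebra k M] [CommRing A] [Algebra L A]

/-- Evaluation of the parameter. -/
noncomputable def evalAt (k M : Type u) [Field k] [Field M] [Algebra k L] [Algebra k M] (s : A →ₐ[L] L) :
    (L ⊗[k] M) ⊗[L] A →ₐ[L] L ⊗[k] M :=
  Algebra.TensorProduct.lift (AlgHom.id L _) ((Algebra.ofId L _).comp s) fun _ _ => Commute.all _ _

theorem repr_eval {ι κ : Type u} [AddCommGroup κ] [Module L κ] (b : Module.Basis ι L κ) (s : A →ₐ[L] L)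
    (σ : κ ⊗[L] A →ₗ[L] κ) (hσ : ∀ r a, σ (r ⊗ₜ a) = s a • r) (z : κ ⊗[L] A) (i : ι) :
    b.repr (σ z) i = s ((b.baseChange A).repr (TensorProduct.comm L κ A z) i) := by
  induction z using TensorProduct.induction_on with
  | zero => simp
  | tmul r a => simp [hσ, mul_comm]
  | add x y hx hy => simp [hx, hy]

/-- A nonzero element has a coefficient controlling its specializations. -/
theorem exists_coef {κ : Type u} [CommRing κ] [Algebra L κ] (z : κ ⊗[L] A) (hz : z ≠ 0) :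
    ∃ a : A, a ≠ 0 ∧ ∀ s : A →ₐ[L] L, s a ≠ 0 →
      Algebra.TensorProduct.lift (AlgHom.id L κ) ((Algebra.ofId L κ).comp s) (fun _ _ => Commute.all _ _) z ≠ 0 := by
  let b := Module.Free.chooseBasis L κ
  have hc : (b.baseChange A).repr (TensorProduct.comm L κ A z) ≠ 0 := by simpa using hz
  obtain ⟨i, hi⟩ := Finsupp.ne_iff.1 hc
  refine ⟨_, hi, fun s hs h0 => hs ?_⟩
  refine (repr_eval b s (Algebra.TensorProduct.lift (AlgHom.id L κ) ((Algebra.ofId L κ).comp s)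
    (fun _ _ => Commute.all _ _)).toLinearMap (fun r a => by simp [Algebra.smul_def, mul_comm]) z i).symm.trans ?_
  rw [AlgHom.toLinearMap_apply, h0]
  simp

set_option maxHeartbeats 800000 in
set_option synthInstance.maxHeartbeats 80000 in
theorem exists_good_point_aux [IsAlgClosed L] [Algebra.IsAlgebraic k L] [IsDomain A] [Algebra.FiniteType L A]
    {M₀ : Type u} [Field M₀] [Algebra k M₀] [Algebra.EssFiniteType k M₀] (ι : M₀ →ₐ[k] M)
    {O : Set (PrimeSpectrum ((L ⊗[k] M) ⊗[L] A))} {Ix : Type u} (T : Finset Ix) (g : Ix → (L ⊗[k] M) ⊗[L] A)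
    (g₀ : Ix → (L ⊗[k] M₀) ⊗[L] A)
    (hg₀ : ∀ i ∈ T, Algebra.TensorProduct.map (Algebra.TensorProduct.map (AlgHom.id L L) ι) (AlgHom.id L A) (g₀ i) = g i)
    (hgO : ∀ i, (basicOpen (g i) : Set _) ⊆ O)
    (hT : Set.univ ⊆ ⋃ i ∈ T, comap (algebraMap (L ⊗[k] M) ((L ⊗[k] M) ⊗[L] A)) '' (basicOpen (g i) : Set _)) :
    ∃ s : A →ₐ[L] L, ∀ f, comap (evalAt k M s).toRingHom f ∈ O := by
  classical
  let ι₀ : (L ⊗[k] M₀) →ₐ[L] L ⊗[k] M := Algebra.TensorProduct.map (AlgHom.id L L) ι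
  let ιA : (L ⊗[k] M₀) ⊗[L] A →ₐ[L] (L ⊗[k] M) ⊗[L] A := Algebra.TensorProduct.map ι₀ (AlgHom.id L A)
  have : IsNoetherianRing (L ⊗[k] M₀) := Algebra.EssFiniteType.isNoetherianRing L (L ⊗[k] M₀)
  have hmax : ∀ p : Ideal (L ⊗[k] M₀), p.IsPrime → p.IsMaximal := fun p hp => by
    let : Algebra M₀ (L ⊗[k] M₀) := Algebra.TensorProduct.rightAlgebra
    have : Algebra.IsIntegral k L := Algebra.IsAlgebraic.isIntegral
    have : Algebra.IsIntegral M₀ (L ⊗[k] M₀) := by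
      refine ⟨fun r => ?_⟩
      obtain ⟨r, rfl⟩ := (Algebra.TensorProduct.comm k M₀ L).surjective r
      exact (Algebra.IsIntegral.isIntegral (R := M₀) r).map
        (⟨(Algebra.TensorProduct.comm k M₀ L).toAlgHom.toRingHom, fun m => by
          simp [Algebra.TensorProduct.right_algebraMap_apply]⟩ : M₀ ⊗[k] L →ₐ[M₀] L ⊗[k] M₀)
    exact Ideal.Quotient.maximal_of_isField _ (isField_of_isIntegral_of_isField' (R := M₀) (Field.toIsField M₀))
  have : IsArtinianRing (L ⊗[k] M₀) :=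
    isArtinianRing_iff_krullDimLE_zero.2 (Ring.KrullDimLE.mk₀ hmax)
  let Pr := {p : PrimeSpectrum (L ⊗[k] M₀) // ∃ f : PrimeSpectrum (L ⊗[k] M), comap ι₀.toRingHom f = p}
  -- a nonzero coefficient over each point
  have hcoef : ∀ p : Pr, ∃ (f' : Ix) (hf' : f' ∈ T) (a : A), a ≠ 0 ∧
      ∀ s : A →ₐ[L] L, s a ≠ 0 → ∀ f, comap ι₀.toRingHom f = p.1 → evalAt k M s (g f') ∉ f.asIdeal := by
    rintro ⟨p, f₁, hf₁⟩
    obtain ⟨f', hf', q, hq, hqf⟩ : ∃ f' ∈ T, f₁ ∈ comap (algebraMap (L ⊗[k] M) ((L ⊗[k] M) ⊗[L] A)) ''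
        (basicOpen (g f') : Set _) := by simpa using hT (Set.mem_univ f₁)
    let φ : (L ⊗[k] M₀) ⊗[L] A →ₐ[L] ((L ⊗[k] M₀) ⧸ p.asIdeal) ⊗[L] A := Algebra.TensorProduct.map (Ideal.Quotient.mkₐ L p.asIdeal) (AlgHom.id L A)
    have hne : φ (g₀ f') ≠ 0 := fun h0 => by
      let θ : (L ⊗[k] M₀) →ₐ[L] ((L ⊗[k] M) ⊗[L] A) ⧸ q.asIdeal :=
        (Ideal.Quotient.mkₐ L q.asIdeal).comp ((Algebra.TensorProduct.includeLeft).comp ι₀)
      let θ' : ((L ⊗[k] M₀) ⧸ p.asIdeal) →ₐ[L] ((L ⊗[k] M) ⊗[L] A) ⧸ q.asIdeal := Ideal.Quotient.liftₐ p.asIdeal θ fun r hr => by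
        refine Ideal.Quotient.eq_zero_iff_mem.2 ?_
        rw [← hf₁, ← hqf] at hr
        exact hr
      let ψ : ((L ⊗[k] M₀) ⧸ p.asIdeal) ⊗[L] A →ₐ[L] ((L ⊗[k] M) ⊗[L] A) ⧸ q.asIdeal := Algebra.TensorProduct.lift θ'
        ((Ideal.Quotient.mkₐ L q.asIdeal).comp Algebra.TensorProduct.includeRight) fun x y => by exact mul_comm (θ' x) _
      have : ψ.comp φ = (Ideal.Quotient.mkₐ L q.asIdeal).comp ιA := by
        apply Algebra.TensorProduct.ext
        · refine AlgHom.ext fun r => ?_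
          change ψ ((Ideal.Quotient.mkₐ L p.asIdeal r) ⊗ₜ[L] (1 : A)) = Ideal.Quotient.mkₐ L q.asIdeal (ι₀ r ⊗ₜ[L] 1)
          refine (Algebra.TensorProduct.lift_tmul _ _ _ _ _).trans ?_
          rw [map_one, mul_one]
          rfl
        · refine AlgHom.ext fun a => ?_
          change ψ ((Ideal.Quotient.mkₐ L p.asIdeal 1) ⊗ₜ[L] a) = Ideal.Quotient.mkₐ L q.asIdeal (ι₀ 1 ⊗ₜ[L] a)
          refine (Algebra.TensorProduct.lift_tmul _ _ _ _ _).trans ?_
          rw [map_one, map_one, one_mul, map_one]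
          rfl
      have h1 := congr($this (g₀ f'))
      simp only [AlgHom.comp_apply, h0, map_zero, hg₀ f' hf'] at h1
      exact hq ((hg₀ f' hf').symm ▸ Ideal.Quotient.eq_zero_iff_mem.1 h1.symm : g f' ∈ q.asIdeal)
    obtain ⟨a, ha, has⟩ := exists_coef (φ (g₀ f')) hne
    refine ⟨f', hf', a, ha, fun s hs f hf hmem => has s hs ?_⟩
    let σ : ((L ⊗[k] M₀) ⧸ p.asIdeal) ⊗[L] A →ₐ[L] ((L ⊗[k] M₀) ⧸ p.asIdeal) :=
      Algebra.TensorProduct.lift (AlgHom.id L _) ((Algebra.ofId L _).comp s) fun _ _ => Commute.all _ _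
    let σ₀ : (L ⊗[k] M₀) ⊗[L] A →ₐ[L] (L ⊗[k] M₀) :=
      Algebra.TensorProduct.lift (AlgHom.id L _) ((Algebra.ofId L _).comp s) fun _ _ => Commute.all _ _
    have e1 : (evalAt k M s).comp ιA = ι₀.comp σ₀ := by
      apply Algebra.TensorProduct.ext
      · refine AlgHom.ext fun r => ?_
        simp [evalAt, ιA, σ₀, ι₀, Algebra.TensorProduct.lift_tmul, Algebra.TensorProduct.map_tmul, ← Algebra.TensorProduct.one_def, ← Ideal.Quotient.mk_algebraMap, Algebra.TensorProduct.algebraMap_apply]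
      · refine AlgHom.ext fun a => ?_
        simp [evalAt, ιA, σ₀, ι₀, Algebra.TensorProduct.lift_tmul, Algebra.TensorProduct.map_tmul, ← Algebra.TensorProduct.one_def, ← Ideal.Quotient.mk_algebraMap, Algebra.TensorProduct.algebraMap_apply]
    have e2 : σ.comp φ = (Ideal.Quotient.mkₐ L p.asIdeal).comp σ₀ := by
      apply Algebra.TensorProduct.ext
      · refine AlgHom.ext fun r => ?_
        simp [σ, φ, σ₀, Algebra.TensorProduct.lift_tmul, Algebra.TensorProduct.map_tmul, ← Algebra.TensorProduct.one_def, ← Ideal.Quotient.mk_algebraMap, Algebra.TensorProduct.algebraMap_apply]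
      · refine AlgHom.ext fun a => ?_
        simp [σ, φ, σ₀, Algebra.TensorProduct.lift_tmul, Algebra.TensorProduct.map_tmul, ← Algebra.TensorProduct.one_def, ← Ideal.Quotient.mk_algebraMap, Algebra.TensorProduct.algebraMap_apply]
    have h2 : σ₀ (g₀ f') ∈ p.asIdeal := by
      have hp : p = comap ι₀.toRingHom f := hf.symm
      rw [hp]
      change ι₀ (σ₀ (g₀ f')) ∈ f.asIdeal
      rwa [← AlgHom.comp_apply, ← e1, AlgHom.comp_apply, hg₀ f' hf']
    change σ (φ (g₀ f')) = 0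
    rw [← AlgHom.comp_apply, e2]
    exact Ideal.Quotient.eq_zero_iff_mem.2 h2
  choose f' hf' a ha hgood using hcoef
  have : Fintype Pr := Fintype.ofFinite Pr
  obtain ⟨s, y, hy, hsy⟩ := BigField.exists_rational_point (L := L) (A := A)
    (O := (basicOpen (∏ p, a p) : Set _)) (basicOpen _).isOpen
    ⟨⟨⊥, Ideal.isPrime_bot⟩, show ¬ ((∏ p, a p) ∈ (⊥ : Ideal A)) from fun hb =>
      (Finset.prod_ne_zero_iff.2 fun p _ => ha p) (Ideal.mem_bot.1 hb)⟩
  refine ⟨s, fun f => ?_⟩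
  let p : Pr := ⟨comap ι₀.toRingHom f, f, rfl⟩
  refine hgO (f' p) (hgood p s (fun h0 => hy ?_) f rfl)
  rw [← hsy ⟨⊥, Ideal.isPrime_bot⟩]
  change s (∏ p, a p) ∈ (⊥ : Ideal L)
  rw [Ideal.mem_bot, map_prod]
  exact Finset.prod_eq_zero (Finset.mem_univ p) h0


/-- An open set of `Spec ((L ⊗ M) ⊗ A)` meeting all the fibres over `Spec (L ⊗ M)` contains all the points over
some rational point of `Spec A`. -/
theorem exists_good_point [IsAlgClosed L] [Algebra.IsAlgebraic k L] [IsDomain A] [Algebra.FiniteType L A]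
    {O : Set (PrimeSpectrum ((L ⊗[k] M) ⊗[L] A))} (hO : IsOpen O)
    (h : ∀ f : PrimeSpectrum (L ⊗[k] M), ∃ q ∈ O, comap (algebraMap (L ⊗[k] M) _) q = f) :
    ∃ s : A →ₐ[L] L, ∀ f, comap (evalAt k M s).toRingHom f ∈ O := by
  classical
  -- finitely many functions
  have hloc : ∀ f : PrimeSpectrum (L ⊗[k] M), ∃ h₀ : (L ⊗[k] M) ⊗[L] A, (basicOpen h₀ : Set _) ⊆ O ∧
      f ∈ comap (algebraMap (L ⊗[k] M) ((L ⊗[k] M) ⊗[L] A)) '' (basicOpen h₀ : Set _) := fun f => by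
    obtain ⟨q, hq, hqf⟩ := h f
    obtain ⟨_, ⟨g, rfl⟩, hqg, hg⟩ := isTopologicalBasis_basic_opens.exists_subset_of_mem_open hq hO
    exact ⟨g, hg, q, hqg, hqf⟩
  choose g hgO hgf using hloc
  obtain ⟨T, hT⟩ := isCompact_univ.elim_finite_subcover
    (fun f => comap (algebraMap (L ⊗[k] M) ((L ⊗[k] M) ⊗[L] A)) '' (basicOpen (g f) : Set _))
    (fun f => isOpenMap_comap_algebraMap_tensorProduct_of_field _ (basicOpen (g f)).isOpen)
    (fun f _ => Set.mem_iUnion.2 ⟨f, hgf f⟩)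
  -- their coefficients live in a finitely generated subfield
  choose S hS using fun f => TensorProduct.exists_finset (g f)
  choose S' hS' using fun r : L ⊗[k] M => TensorProduct.exists_finset r
  let fs : Finset M := T.biUnion fun f => (S f).biUnion fun x => (S' x.1).image Prod.snd
  let M₀ := IntermediateField.adjoin k (fs : Set M)
  have : Algebra.EssFiniteType k M₀ := IntermediateField.essFiniteType_iff.2 ⟨fs, rfl⟩
  let ι₀ : (L ⊗[k] (M₀ : Type u)) →ₐ[L] L ⊗[k] M := Algebra.TensorProduct.map (AlgHom.id L L) M₀.val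
  have hx : ∀ f ∈ T, ∀ x ∈ S f, ∃ r, ι₀ r = x.1 := fun f hf x hx => by
    refine RingHom.mem_range (f := ι₀.toRingHom) |>.1 ?_
    rw [hS' x.1]
    refine Subring.sum_mem _ fun y hy => ⟨y.1 ⊗ₜ (⟨y.2, IntermediateField.subset_adjoin k _ ?_⟩ : M₀), rfl⟩
    exact Finset.mem_biUnion.2 ⟨f, hf, Finset.mem_biUnion.2 ⟨x, hx, Finset.mem_image.2 ⟨y, hy, rfl⟩⟩⟩
  choose r hr using hx
  refine exists_good_point_aux M₀.val T g
    (fun f => if hf : f ∈ T then ∑ x ∈ (S f).attach, r f hf x.1 x.2 ⊗ₜ[L] x.1.2 else 0) (fun f hf => ?_) hgO hT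
  rw [dif_pos hf, map_sum, hS f, ← Finset.sum_attach (S f) fun i => i.1 ⊗ₜ[L] i.2]
  exact Finset.sum_congr rfl fun x _ => congrArg (· ⊗ₜ[L] x.1.2) (hr f hf x.1 x.2)

end Groth.Agent.AlgSpB.GrpField
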