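import Groth.Agent.AlgSpB.GrpField.OverField
import Groth.Agent.GrpScheme.IdComponent
import Groth.Prelude.Def_AlgSpGpd

/-!
# A group space which is a scheme over a field extension as a group scheme
-/

universe u

open CategoryTheory CategoryTheory.Limits AlgebraicGeometry Opposite MonoidalCategory CartesianMonoidalCategory
open scoped MonObj

set_option backward.isDefEq.respectTransparency false
set_option backward.isDefEq.respectTransparency.types false
set_option autoImplicit false

namespace Groth.Agent.AlgSpB.GrpField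

open _root_.AlgSp

variable {k L : Type u} [Field k] [Field L] [Algebra k L]

/-- The structure map of an extension. -/
noncomputable abbrev extMap (k L : Type u) [Field k] [Field L] [Algebra k L] :
    Spec (CommRingCat.of L) ⟶ Spec (CommRingCat.of k) :=
  Spec.map (CommRingCat.ofHom (algebraMap k L))

/-- A scheme over the extension as a space over the base space. -/
noncomputable def oF (k L : Type u) [Field k] [Field L] [Algebra k L] :
    Over (Spec (CommRingCat.of L)) ⥤ Over ((yon (Spec (CommRingCat.of k))).obj (Over.mk (𝟙 _))) where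
  obj T := Over.mk ((Groth.Agent.AlgSp.LimSepAbs.isTerminalBase).from
    ((yon _).obj ((Over.map (extMap k L)).obj T)))
  map f := Over.homMk ((yon _).map ((Over.map (extMap k L)).map f))
    ((Groth.Agent.AlgSp.LimSepAbs.isTerminalBase).hom_ext _ _)
  map_id T := Over.OverMorphism.ext (by
    change (yon _).map ((Over.map (extMap k L)).map (𝟙 T)) = 𝟙 _
    rw [CategoryTheory.Functor.map_id, CategoryTheory.Functor.map_id])
  map_comp f g := Over.OverMorphism.ext (by
    change (yon _).map ((Over.map (extMap k L)).map (f ≫ g)) = _ ≫ _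
    rw [CategoryTheory.Functor.map_comp, CategoryTheory.Functor.map_comp]
    rfl)

/-- The projection to the structure map. -/
noncomputable def strMap {T : Over (Spec (CommRingCat.of L))} :
    (Over.map (extMap k L)).obj T ⟶ extObj k L :=
  Over.homMk T.hom rfl

/-- A representation of `G ×_k L` by a scheme gives a group scheme over `L`. -/
theorem exists_grpScheme (G : Over ((yon (Spec (CommRingCat.of k))).obj (Over.mk (𝟙 _)))) [GrpObj G]
    {Hs : Over (Spec (CommRingCat.of k))} (e : (yon _).obj Hs ≅ G.left ⨯ (yon _).obj (extObj k L))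
    (q : Hs ⟶ extObj k L) (hq : (yon _).map q = e.hom ≫ prod.snd) :
    ∃ (_ : GrpObj (Over.mk q.left)),
      ∀ (T : Over (Spec (CommRingCat.of L))), ∃ π : (T ⟶ Over.mk q.left) →* ((oF k L).obj T ⟶ G),
        ∀ v : T ⟶ Over.mk q.left, (π v).left = (yon _).map (Over.homMk v.left (by
          change v.left ≫ Hs.hom = T.hom ≫ extMap k L
          rw [← Over.w q, ← Category.assoc]
          exact congrArg (· ≫ extMap k L) (Over.w v)) : (Over.map (extMap k L)).obj T ⟶ Hs) ≫ e.hom ≫ prod.fst := by
  let hT := Groth.Agent.AlgSp.LimSepAbs.isTerminalBase (S := Spec (CommRingCat.of k))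
  let H : Over (Spec (CommRingCat.of L)) := Over.mk q.left
  let lf : ∀ {T : Over (Spec (CommRingCat.of L))}, (T ⟶ H) → ((Over.map (extMap k L)).obj T ⟶ Hs) :=
    fun {T} v => Over.homMk v.left (by
      change v.left ≫ Hs.hom = T.hom ≫ extMap k L
      rw [← Over.w q, ← Category.assoc]
      exact congrArg (· ≫ extMap k L) (Over.w v))
  let fwd : ∀ {T : Over (Spec (CommRingCat.of L))}, (T ⟶ H) → ((oF k L).obj T ⟶ G) :=
    fun v => Over.homMk ((yon _).map (lf v) ≫ e.hom ≫ prod.fst) (hT.hom_ext _ _)
  have hbij : ∀ T, Function.Bijective (fwd (T := T)) := fun T => by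
    refine ⟨fun v w h => ?_, fun a => ?_⟩
    · have h1 : lf v ≫ q = lf w ≫ q := Over.OverMorphism.ext ((Over.w v).trans (Over.w w).symm)
      have h2 : (yon _).map (lf v) ≫ e.hom = (yon _).map (lf w) ≫ e.hom := by
        apply prod.hom_ext
        · simpa [fwd] using congrArg CommaMorphism.left h
        · rw [Category.assoc, Category.assoc, ← hq, ← Functor.map_comp, ← Functor.map_comp, h1]
      exact Over.OverMorphism.ext
        (congrArg CommaMorphism.left ((yon _).map_injective ((cancel_mono e.hom).1 h2)) :)
    · obtain ⟨l, hl⟩ := (yon _).map_surjective (prod.lift a.left ((yon _).map (strMap (k := k) (T := T))) ≫ e.inv)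
      have hlq : l ≫ q = strMap := (yon _).map_injective (by
        rw [Functor.map_comp, hl, hq, Category.assoc, e.inv_hom_id_assoc, prod.lift_snd])
      refine ⟨Over.homMk l.left (congrArg CommaMorphism.left hlq), Over.OverMorphism.ext ?_⟩
      change (yon _).map l ≫ e.hom ≫ prod.fst = a.left
      rw [hl, Category.assoc, e.inv_hom_id_assoc, prod.lift_fst]
  let α : ((oF k L).op ⋙ yonedaGrpObj G ⋙ forget _).RepresentableBy H :=
    { homEquiv := fun {T} => Equiv.ofBijective _ (hbij T)
      homEquiv_comp := fun {T T'} f v => Over.OverMorphism.ext (by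
        change (yon _).map (lf (f ≫ v)) ≫ e.hom ≫ prod.fst = (yon _).map _ ≫ (yon _).map (lf v) ≫ e.hom ≫ prod.fst
        rw [← Functor.map_comp_assoc]
        rfl) }
  let inst : GrpObj H := GrpObj.ofRepresentableBy H ((oF k L).op ⋙ yonedaGrpObj G) α
  refine ⟨inst, fun T => ⟨MonoidHom.mk' fwd fun v w => ?_, fun v => rfl⟩⟩
  have hc : ∀ (x : H ⊗ H ⟶ H), fwd (lift v w ≫ x) = (oF k L).map (lift v w) ≫ fwd x := fun x => α.homEquiv_comp _ x
  rw [Hom.mul_def]
  refine (hc (α.homEquiv.symm (fwd (fst H H) * fwd (snd H H)))).trans ?_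
  rw [show fwd (α.homEquiv.symm (fwd (fst H H) * fwd (snd H H))) = fwd (fst H H) * fwd (snd H H) from
    α.homEquiv.apply_symm_apply _, MonObj.comp_mul, ← hc (fst H H)]
  exact congrArg₂ (· * ·) (congrArg fwd (lift_fst v w)) ((hc (snd H H)).symm.trans (congrArg fwd (lift_snd v w)))

end Groth.Agent.AlgSpB.GrpField
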