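import Groth.Agent.AlgSpB.GrpField.GroupScheme
import Groth.Agent.AlgSpB.GrpField.Generic
import Groth.Agent.GrpScheme.Dimension
import Groth.Agent.S10119
import Groth.Agent.S10200

/-!
# Separated group spaces over a field are schemes
-/

universe u

open CategoryTheory CategoryTheory.Limits AlgebraicGeometry Opposite MonoidalCategory CartesianMonoidalCategory
open scoped MonObj

set_option backward.isDefEq.respectTransparency false
set_option backward.isDefEq.respectTransparency.types false
set_option autoImplicit false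

namespace Groth.Agent.AlgSpB.GrpField

open _root_.AlgSp Groth.Agent.AlgSp
open Groth.Agent.GrpScheme.Component (IsMaxGen)

/-- A representable universally closed morphism is closed on points. -/
theorem isClosedMap_map_of_universallyClosed {S : Scheme.{u}} {F G : Sp S} (f : F ⟶ G)
    (hf : RepWith @UniversallyClosed f) : IsClosedMap (Points.map f) := by
  intro E hE
  rw [← isOpen_compl_iff, Points.isOpen_iff]
  intro T g
  obtain ⟨W, snd, fst, sq⟩ := hf.1 g
  have : UniversallyClosed snd.left := hf.2 _ _ _ sq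
  have : Points.ofPt g ⁻¹' (Points.map f '' E)ᶜ = (snd.left '' (Points.ofPt fst ⁻¹' E))ᶜ := by
    ext t
    refine not_congr ⟨?_, ?_⟩
    · rintro ⟨x, hx, hxt⟩
      rw [Points.ofPt_eq_map_ofScheme] at hxt
      obtain ⟨w, hw1, hw2⟩ := exists_of_isPullback sq x _ hxt
      rw [← Points.ofScheme_toScheme W w, ← Points.ofPt_eq_map_ofScheme] at hw1 hw2
      refine ⟨Points.toScheme W w, ?_, ?_⟩
      · change Points.ofPt fst _ ∈ E
        rw [hw1]; exact hx
      · rw [← Points.toScheme_ofPt, hw2, Points.toScheme_ofScheme]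
    · rintro ⟨w, hw, rfl⟩
      exact ⟨_, hw, by rw [Points.map_ofPt, sq.w, ofPt_map_comp]⟩
  rw [this]
  exact (snd.left.isClosedMap _ (hE.preimage (Points.continuous_ofPt fst))).isOpen_compl

/-- An affine open subspace through a point of an open subscheme. -/
theorem exists_affine_open_at {S : Scheme.{u}} {X X' : Space S} (j : X' ⟶ X) (hj : RepWith @IsOpenImmersion j.hom)
    (hrep : X'.obj.obj.IsRepresentable) {y : Points X.obj} (hy : y ∈ Set.range (Points.map j.hom)) :
    ∃ (U : Over S) (ju : (yon S).obj U ⟶ X.obj) (v : ↥U.left), IsAffine U.left ∧ RepWith @IsOpenImmersion ju ∧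
      Points.ofPt ju v = y := by
  obtain ⟨Z, ⟨e⟩⟩ := exists_iso_of_isRepresentable hrep
  obtain ⟨y', rfl⟩ := hy
  obtain ⟨V, hV, hzV, -⟩ := exists_isAffineOpen_mem_and_subset
    (x := Points.toScheme Z (Points.map e.inv y')) (U := ⊤) trivial
  let i : Over.mk (hV.fromSpec ≫ Z.hom) ⟶ Z := Over.homMk hV.fromSpec rfl
  obtain ⟨v, hv⟩ : Points.toScheme Z (Points.map e.inv y') ∈ Set.range hV.fromSpec := by
    rw [hV.range_fromSpec]; exact hzV
  refine ⟨_, (yon S).map i ≫ e.hom ≫ j.hom, v, inferInstanceAs (IsAffine (Spec _)),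
    (RepWith @IsOpenImmersion : MorphismProperty (Sp S)).comp_mem _ _
      ((repWith_yon_map_iff _ i).2 (inferInstanceAs (IsOpenImmersion hV.fromSpec)))
      ((MorphismProperty.cancel_left_of_respectsIso (RepWith @IsOpenImmersion : MorphismProperty (Sp S)) _ _).2 hj), ?_⟩
  rw [ofPt_map_comp, show i.left v = _ from hv, Points.ofPt_eq_map_ofScheme, Points.ofScheme_toScheme,
    Points.map_comp, ← Points.map_comp e.inv, e.inv_hom_id, Points.map_id]

variable {k : Type u} [Field k]

/-- Generic points of a base change map to points of codimension zero. -/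
theorem hasAt_of_isMaxGen {L : Type u} [Field L] [Algebra k L] (X : Space (Spec (CommRingCat.of k)))
    {Hs : Over (Spec (CommRingCat.of k))} (e : (yon _).obj Hs ≅ X.obj ⨯ (yon _).obj (extObj k L))
    (a : ↥Hs.left) (ha : IsMaxGen a) :
    HasAt (fun U u => ringKrullDim ↥(U.presheaf.stalk u) = 0) X.obj (Points.ofPt (e.hom ≫ prod.fst) a) := by
  obtain ⟨R, str, b, u, hb, hu⟩ := Groth.Agent.AlgSpD.exists_affine_chart_at X.property
    (Points.ofPt (e.hom ≫ prod.fst) a)
  let hT := LimSepAbs.isTerminalBase (S := Spec (CommRingCat.of k))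
  have : IsAffine (extObj k L).left := inferInstanceAs (IsAffine (Spec _))
  have hf : RepWith @Flat (prod.fst : X.obj ⨯ (yon _).obj (extObj k L) ⟶ X.obj) := by
    have sq : IsPullback prod.fst prod.snd (hT.from X.obj) (hT.from ((yon _).obj (extObj k L))) :=
      IsPullback.of_is_product (prodIsProd _ _) hT
    refine MorphismProperty.of_isPullback sq.flip ?_
    rw [hT.hom_ext (hT.from _) ((yon _).map (Over.homMk (extObj k L).hom (Category.comp_id _) :
      extObj k L ⟶ Over.mk (𝟙 _)))]
    exact (repWith_yon_map_iff _ _).2 (Groth.Agent.AlgSpB.flat_of_field _)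
  have hef : RepWith @Flat (e.hom ≫ prod.fst) :=
    (MorphismProperty.cancel_left_of_respectsIso (RepWith @Flat : MorphismProperty (Sp _)) _ _).2 hf
  obtain ⟨W, fst, snd, sq⟩ := exists_pullback_yon hef.1 b
  have : Flat snd.left := hef.2 _ _ _ sq
  have : Etale fst.left := hb.2 _ _ _ sq.flip
  obtain ⟨w, hw₁, hw₂⟩ := (ofPt_eq_ofPt_iff sq a u).1 hu.symm
  rw [← hu, Groth.Agent.AlgSp.codim0_iff_chart hb u, ← GrpScheme.Component.isMaxGen_iff]
  intro z hz
  obtain ⟨w', hw', rfl⟩ := Flat.generalizingMap snd.left (hw₂.symm ▸ hz : z ⤳ snd.left w)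
  have := Groth.Agent.AlgSpD.locallyQuasiFinite_of_etale fst.left
  rw [Groth.Agent.AlgSpD.eq_of_specializes_of_apply_eq fst.left hw'
    ((ha _ (hw₁ ▸ hw'.map fst.left.continuous)).trans hw₁.symm), hw₂]

set_option maxHeartbeats 3200000 in
/-- A group space separated over a field is a scheme. -/
theorem isRepresentable_of_separated (G : Over ((yon (Spec (CommRingCat.of k))).obj (Over.mk (𝟙 _)))) [GrpObj G]
    (hG : IsAlgSpace G.left) (hsep : IsSeparatedSp G.left) : G.left.obj.IsRepresentable := by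
  classical
  let S := Spec (CommRingCat.of k)
  let hT := LimSepAbs.isTerminalBase (S := S)
  let L := AlgebraicClosure k
  let Lo := extObj k L
  let GS : Space S := ⟨G.left, hG⟩
  have hGqs : IsQuasiSeparatedSp G.left :=
    repWith_mono (fun g hg => (have : IsClosedImmersion g := hg; inferInstance : QuasiCompact g)) hsep
  obtain ⟨Hs, ⟨e⟩⟩ := exists_iso_of_isRepresentable (Groth.Agent.S10119.result k G hG hsep)
  obtain ⟨q, hq⟩ := (yon S).map_surjective (e.hom ≫ prod.snd : (yon S).obj Hs ⟶ (yon S).obj Lo)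
  obtain ⟨instH, hπ⟩ := exists_grpScheme (L := L) G e q hq
  let H : Over (Spec (CommRingCat.of L)) := Over.mk q.left
  let f : (yon S).obj Hs ⟶ G.left := e.hom ≫ prod.fst
  obtain ⟨g₀, hg₀, hg₀e, hg₀u, htr⟩ := exists_generic_translate H
  -- affine opens through the images of generic points
  obtain ⟨U₀, j₀, hj₀, hrep₀, -, hcod⟩ := Groth.Agent.S10200.result GS
    ⟨PUnit, fun _ => GS, fun _ => 𝟙 _,
      ⟨fun _ => MorphismProperty.id_mem (RepWith @IsOpenImmersion) _, fun x => ⟨PUnit.unit, x, Points.map_id x⟩⟩,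
      fun _ => hGqs⟩
  have haff : ∀ a : Hs.left, IsMaxGen a → ∃ (U : Over S) (ju : (yon S).obj U ⟶ G.left) (v : ↥U.left),
      IsAffine U.left ∧ RepWith @IsOpenImmersion ju ∧ Points.ofPt ju v = Points.ofPt f a := fun a ha =>
    exists_affine_open_at (X := GS) j₀ hj₀ hrep₀ (hcod _ (hasAt_of_isMaxGen GS e a ha))
  -- the projection is integral
  have hint : RepWith @IsIntegralHom f := by
    refine (MorphismProperty.cancel_left_of_respectsIso (RepWith @IsIntegralHom : MorphismProperty (Sp S)) _ _).2 ?_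
    have sq : IsPullback prod.fst prod.snd (hT.from G.left) (hT.from ((yon S).obj Lo)) :=
      IsPullback.of_is_product (prodIsProd _ _) hT
    refine MorphismProperty.of_isPullback sq.flip ?_
    rw [hT.hom_ext (hT.from _) ((yon _).map (Over.homMk Lo.hom (Category.comp_id _) : Lo ⟶ Over.mk (𝟙 _)))]
    refine (repWith_yon_map_iff _ _).2 ?_
    have : Algebra.IsIntegral k L := Algebra.IsAlgebraic.isIntegral
    exact IsIntegralHom.SpecMap_iff.2 (algebraMap_isIntegral_iff.2 this)
  have hLs : Subsingleton Lo.left := inferInstanceAs (Subsingleton (PrimeSpectrum L))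
  have hSs : Subsingleton (Points ((yon S).obj (Over.mk (𝟙 S)))) := ⟨fun a b => by
    rw [← Points.ofScheme_toScheme _ a, ← Points.ofScheme_toScheme _ b,
      @Subsingleton.elim _ (inferInstanceAs (Subsingleton (PrimeSpectrum k)) : Subsingleton (Over.mk (𝟙 S)).left)
        (Points.toScheme _ a) (Points.toScheme _ b)]⟩
  -- the generic point is the only point over its image
  have huniq : ∀ z : Hs.left, Points.ofPt f z = Points.ofPt f g₀ → z = g₀ := by
    intro z hz
    let pe := Points.ofPt f (GrpScheme.IdComponent.e₀ H)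
    let C : Set (Points ((yon S).obj Hs)) := Points.toScheme Hs ⁻¹' closure {z}
    have hC : IsClosed C := isClosed_closure.preimage (Points.schemeHomeo Hs).symm.continuous
    have hcl : IsClosed (Points.map f '' C) := isClosedMap_map_of_universallyClosed f
      (repWith_mono (fun g hg => (have : IsIntegralHom g := hg; inferInstance : UniversallyClosed g)) hint) _ hC
    have hgC : Points.ofPt f g₀ ∈ Points.map f '' C := ⟨Points.ofScheme Hs z, by
      change Points.toScheme Hs _ ∈ closure {z}
      rw [Points.toScheme_ofScheme]; exact subset_closure rfl, by rw [← Points.ofPt_eq_map_ofScheme, hz]⟩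
    obtain ⟨c, hcC, hc⟩ := (hg₀e.map (Points.continuous_ofPt f)).mem_closed hcl hgC
    -- the fibre over the unit
    let u₀ : (yon S).obj (Over.mk (𝟙 S)) ⟶ G.left := (1 : Over.mk (𝟙 _) ⟶ G).left
    have hpe : pe = Points.map u₀ (Points.ofScheme (Over.mk (𝟙 S))
        ((extMap k L) (IsLocalRing.closedPoint L))) := by
      obtain ⟨π, hπ'⟩ := hπ (𝟙_ _)
      let ob := (oF k L).obj (𝟙_ (Over (Spec (CommRingCat.of L))))
      let to0 : ob ⟶ Over.mk (𝟙 _) := Over.homMk ob.hom (Category.comp_id _)
      have h1 : (π 1).left = to0.left ≫ u₀ := by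
        rw [map_one]
        exact congrArg CommaMorphism.left (MonObj.comp_one (M := G) to0).symm
      rw [hπ'] at h1
      have h2 := congrArg (fun m => Points.ofPt m (IsLocalRing.closedPoint L)) h1
      have h3 : ((1 : 𝟙_ (Over (Spec (CommRingCat.of L))) ⟶ H)) = η[H] := by
        rw [Hom.one_def, toUnit_unit, Category.id_comp]
      simp only [ofPt_map_comp] at h2
      rw [h3] at h2
      refine h2.trans ?_
      obtain ⟨m, hm⟩ := (yon S).map_surjective to0.left
      rw [← hm, ofPt_map_comp, Points.ofPt_eq_map_ofScheme]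
      congr 2
      exact @Subsingleton.elim _ (inferInstanceAs (Subsingleton (PrimeSpectrum k)) : Subsingleton S) _ _
    have hfib : ∀ c' : Points ((yon S).obj Hs), Points.map f c' = pe →
        Points.map e.hom c' = Points.map (prod.lift (hT.from _ ≫ u₀) (𝟙 _))
          (Points.ofScheme Lo (IsLocalRing.closedPoint L)) := by
      intro c' hc'
      have sq : IsPullback (prod.lift (hT.from _ ≫ u₀) (𝟙 ((yon S).obj Lo))) (hT.from _) prod.fst u₀ := by
        refine IsPullback.of_right (h₁₂ := prod.snd) (h₂₂ := hT.from G.left) (v₁₃ := hT.from _) ?_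
          (prod.lift_fst _ _) (IsPullback.of_is_product (prodIsProd G.left ((yon S).obj Lo)) hT).flip
        rw [prod.lift_snd, hT.hom_ext (u₀ ≫ hT.from G.left) (𝟙 _)]
        exact IsPullback.of_horiz_isIso ⟨hT.hom_ext _ _⟩
      obtain ⟨d, hd, -⟩ := exists_of_isPullback sq (Points.map e.hom c')
        (Points.ofScheme _ ((extMap k L) (IsLocalRing.closedPoint L))) (by
          rw [← Points.map_comp, ← hpe]; exact hc')
      rw [← hd]
      congr 1
      rw [← Points.ofScheme_toScheme Lo d]
      congr 1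
      exact Subsingleton.elim _ _
    have hce : Points.map e.hom c = Points.map e.hom (Points.ofScheme Hs (GrpScheme.IdComponent.e₀ H)) :=
      (hfib c hc).trans (hfib _ (Points.ofPt_eq_map_ofScheme f _).symm).symm
    have hze : z ⤳ GrpScheme.IdComponent.e₀ H := by
      rw [specializes_iff_mem_closure]
      have := injective_map_of_mono e.hom hce
      change Points.toScheme Hs c ∈ closure {z} at hcC
      rwa [this, Points.toScheme_ofScheme] at hcC
    have hgz : g₀ ⤳ z := hg₀u z hze
    -- both lie in the fibre of an integral morphism of schemes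
    obtain ⟨Ug, jg, vg, -, hjg, hvg⟩ := haff g₀ hg₀
    obtain ⟨W, fst, snd, sq⟩ := exists_pullback_yon hint.1 jg
    have : IsIntegralHom snd.left := hint.2 _ _ _ sq
    have : IsOpenImmersion fst.left := hjg.2 _ _ _ sq.flip
    obtain ⟨w₀, hw₀, hw₀'⟩ := (ofPt_eq_ofPt_iff sq g₀ vg).1 hvg.symm
    obtain ⟨w, hw, hw'⟩ := (ofPt_eq_ofPt_iff sq z vg).1 (hz.trans hvg.symm)
    have hs : w₀ ⤳ w := fst.left.isOpenEmbedding.isInducing.specializes_iff.1 (by rwa [hw₀, hw])
    rw [← hw, ← GrpScheme.Dimension.eq_of_specializes_of_apply_eq snd.left hs (hw₀'.trans hw'.symm), hw₀]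
  -- every point is in the scheme locus
  obtain ⟨G', j, hj, hjrep, hmax'⟩ := exists_largest_open_subscheme GS
  suffices h : ∀ x, x ∈ Set.range (Points.map j.hom) by
    obtain ⟨l, hl⟩ := (exists_factor_isOpenImmersion_iff hj (𝟙 _)).2 fun x _ => h x
    have := mono_of_isOpenImmersion hj
    obtain ⟨Z', ⟨e'⟩⟩ := exists_iso_of_isRepresentable hjrep
    exact isRepresentable_of_iso (e' ≪≫ ⟨j.hom, l, (cancel_mono j.hom).1
      (by rw [Category.assoc, hl]; exact (Category.comp_id _).trans (Category.id_comp _).symm), hl⟩)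
  intro x
  have sqX : IsPullback prod.fst prod.snd (hT.from G.left) (hT.from ((yon S).obj Lo)) :=
    IsPullback.of_is_product (prodIsProd _ _) hT
  obtain ⟨fx, hfx, -⟩ := exists_of_isPullback sqX x (Points.ofScheme Lo (IsLocalRing.closedPoint L))
    (@Subsingleton.elim _ hSs _ _)
  let xb : H.left := Points.toScheme Hs (Points.map e.inv fx)
  have hxb : Points.ofPt f xb = x := by
    rw [Points.ofPt_eq_map_ofScheme, Points.ofScheme_toScheme, ← Points.map_comp, e.inv_hom_id_assoc]
    exact hfx
  obtain ⟨a, ha, hax⟩ := GrpScheme.Component.exists_isMaxGen xb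
  obtain ⟨Ua, ju, va₀, hUa, hju, hva₀⟩ := haff a ha
  let O : Hs.left.Opens := ⟨Points.ofPt f ⁻¹' Set.range (Points.map ju),
    (isOpen_range_of_isOpenImmersion hju).preimage (Points.continuous_ofPt f)⟩
  have haO : Points.ofPt f a ∈ Set.range (Points.map ju) :=
    ⟨Points.ofScheme Ua va₀, by rw [← Points.ofPt_eq_map_ofScheme, hva₀]⟩
  obtain ⟨T, t, va, vb, hta, htb, htd⟩ := htr xb a O hax haO
  obtain ⟨π, hπ'⟩ := hπ T
  -- the pair
  let A2 : Over ((yon S).obj (Over.mk (𝟙 S))) := Over.mk (hT.from (G.left ⨯ G.left))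
  let a1 : A2 ⟶ G := Over.homMk prod.fst (hT.hom_ext _ _)
  let a2 : A2 ⟶ G := Over.homMk prod.snd (hT.hom_ext _ _)
  let dG : A2 ⟶ G := a1⁻¹ * a2
  let cm : (oF k L).obj T ⟶ A2 := Over.homMk (prod.lift (π va).left (π vb).left) (hT.hom_ext _ _)
  have hcm : cm ≫ dG = π (va⁻¹ * vb) := by
    rw [map_mul, map_inv, MonObj.comp_mul, GrpObj.comp_inv]
    congr 1
    · congr 1; exact Over.OverMorphism.ext (prod.lift_fst _ _)
    · exact Over.OverMorphism.ext (prod.lift_snd _ _)
  let c : Points (G.left ⨯ G.left) := Points.ofPt cm.left t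
  have hpt : ∀ v : T ⟶ H, Points.ofPt (π v).left t = Points.ofPt f (v.left t) := fun v => by
    rw [hπ', ofPt_map_comp]; rfl
  have hc₁ : Points.map prod.fst c = Points.ofPt f g₀ := by
    rw [Points.map_ofPt, show cm.left ≫ prod.fst = (π va).left from prod.lift_fst _ _, hpt, hta]
  have hc₂ : Points.map prod.snd c = x := by
    rw [Points.map_ofPt, show cm.left ≫ prod.snd = (π vb).left from prod.lift_snd _ _, hpt, htb]
    exact hxb
  have hcd : Points.map dG.left c ∈ Set.range (Points.map ju) := by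
    rw [Points.map_ofPt, show cm.left ≫ dG.left = (π (va⁻¹ * vb)).left from congrArg CommaMorphism.left hcm, hpt]
    exact htd
  -- the field of the generic point
  let To : Over S := Over.mk (Hs.left.fromSpecResidueField g₀ ≫ Hs.hom)
  let ι₀ : To ⟶ Hs := Over.homMk (Hs.left.fromSpecResidueField g₀) rfl
  let φ : To ⟶ Lo := ι₀ ≫ q
  obtain ⟨κ, hκ⟩ := Spec.map_surjective (R := CommRingCat.of L) φ.left
  let : Algebra L (Hs.left.residueField g₀) := κ.hom.toAlgebra
  -- the translated affine open
  let gm : (yon S).obj To ⟶ G.left := (yon S).map ι₀ ≫ f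
  let Bo : Over ((yon S).obj (Over.mk (𝟙 S))) := Over.mk (hT.from ((yon S).obj To))
  let A : Over ((yon S).obj (Over.mk (𝟙 S))) := Over.mk (hT.from (G.left ⨯ (yon S).obj To))
  let gB : Bo ⟶ G := Over.homMk gm (hT.hom_ext _ _)
  let aA : A ⟶ G := Over.homMk prod.fst (hT.hom_ext _ _)
  let sA : A ⟶ Bo := Over.homMk prod.snd (hT.hom_ext _ _)
  let tr : (Bo ⟶ G) → (A ⟶ A) := fun h => Over.homMk (prod.lift ((sA ≫ h) * aA).left prod.snd) (hT.hom_ext _ _)
  have hmul : ∀ h₁ h₂, tr h₁ ≫ tr h₂ = tr (h₂ * h₁) := fun h₁ h₂ => by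
    have hs : tr h₁ ≫ sA = sA := Over.OverMorphism.ext (prod.lift_snd _ _)
    have ha : tr h₁ ≫ aA = (sA ≫ h₁) * aA := Over.OverMorphism.ext (prod.lift_fst _ _)
    have e : tr h₁ ≫ ((sA ≫ h₂) * aA) = (sA ≫ (h₂ * h₁)) * aA := by
      rw [MonObj.comp_mul, reassoc_of% hs, ha, MonObj.comp_mul, _root_.mul_assoc]
    apply Over.OverMorphism.ext
    apply prod.hom_ext
    · refine (Category.assoc _ _ _).trans (Eq.trans ?_ (prod.lift_fst _ _).symm)
      refine Eq.trans ?_ (congrArg CommaMorphism.left e)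
      exact congrArg ((tr h₁).left ≫ ·) (prod.lift_fst _ _)
    · refine (Category.assoc _ _ _).trans (Eq.trans ?_ (prod.lift_snd _ _).symm)
      exact (congrArg ((tr h₁).left ≫ ·) (prod.lift_snd _ _)).trans (prod.lift_snd _ _)
  have hone : tr 1 = 𝟙 A := by
    apply Over.OverMorphism.ext
    apply prod.hom_ext
    · refine (prod.lift_fst _ _).trans ?_
      rw [MonObj.comp_one, _root_.one_mul]
      exact (Category.id_comp _).symm
    · exact (prod.lift_snd _ _).trans (Category.id_comp _).symm
  let τ : G.left ⨯ (yon S).obj To ≅ G.left ⨯ (yon S).obj To :=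
    { hom := (tr gB).left
      inv := (tr gB⁻¹).left
      hom_inv_id := congrArg CommaMorphism.left ((hmul _ _).trans ((congrArg tr (inv_mul_cancel gB)).trans hone))
      inv_hom_id := congrArg CommaMorphism.left ((hmul _ _).trans ((congrArg tr (mul_inv_cancel gB)).trans hone)) }
  let pm : A ⟶ A2 := Over.homMk (prod.lift (prod.snd ≫ gm) prod.fst) (hT.hom_ext _ _)
  have hτ : τ.inv ≫ prod.fst = pm.left ≫ dG.left := by
    have e1 : pm ≫ dG = (sA ≫ gB⁻¹) * aA := by
      rw [MonObj.comp_mul, GrpObj.comp_inv, GrpObj.comp_inv]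
      congr 1
      · congr 1; exact Over.OverMorphism.ext (prod.lift_fst _ _)
      · exact Over.OverMorphism.ext (prod.lift_snd _ _)
    exact (prod.lift_fst _ _).trans (congrArg CommaMorphism.left e1).symm
  let pi := PreservesLimitPair.iso (yon S) Ua To
  let jW : (yon S).obj (Ua ⨯ To) ⟶ G.left ⨯ (yon S).obj To := pi.hom ≫ prod.map ju (𝟙 _) ≫ τ.hom
  have : IsIso τ.hom := ⟨τ.inv, τ.hom_inv_id, τ.inv_hom_id⟩
  have hjW : RepWith @IsOpenImmersion jW := by
    refine (MorphismProperty.cancel_left_of_respectsIso (RepWith @IsOpenImmersion : MorphismProperty (Sp S)) _ _).2 ?_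
    refine (MorphismProperty.cancel_right_of_respectsIso (RepWith @IsOpenImmersion : MorphismProperty (Sp S)) _ _).2 ?_
    exact MorphismProperty.of_isPullback (IsPullback.of_prod_fst_with_id ju ((yon S).obj To)) hju
  have : IsAffine (Ua ⨯ To).left := by
    have : IsAffineHom ((prod.fst : Ua ⨯ To ⟶ Ua)).left := by
      have h := repWith_affine_fst ((yon S).obj Ua) To
      rw [← PreservesLimitPair.iso_inv_fst (yon S) Ua To] at h
      exact (repWith_yon_map_iff _ _).1
        ((MorphismProperty.cancel_left_of_respectsIso (RepWith @IsAffineHom : MorphismProperty (Sp S)) _ _).1 h)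
    exact isAffine_of_isAffineHom (prod.fst : Ua ⨯ To ⟶ Ua).left
  have hcov : ∀ fp : Points (G.left ⨯ (yon S).obj Lo), Points.map prod.fst fp = x →
      ∃ w, Points.map (jW ≫ prod.map (𝟙 _) ((yon S).map φ)) w = fp := by
    intro fp hfp
    obtain ⟨p, hp₁, hp₂⟩ := exists_of_isPullback
      (isPullback_prod_snd G.left (prod.fst : G.left ⨯ (yon S).obj Lo ⟶ G.left)) fp c (by rw [hfp, hc₂])
    let ρ : G.left ⨯ (G.left ⨯ (yon S).obj Lo) ⟶ G.left ⨯ (yon S).obj Lo := prod.lift prod.fst (prod.snd ≫ prod.snd)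
    let ψ' : G.left ⨯ (yon S).obj To ⟶ G.left ⨯ (G.left ⨯ (yon S).obj Lo) :=
      prod.lift (prod.snd ≫ gm) (prod.map (𝟙 _) ((yon S).map φ))
    have hφ : (yon S).map φ = (yon S).map ι₀ ≫ e.hom ≫ prod.snd := by rw [Functor.map_comp, hq]
    have sψ : IsPullback (prod.snd : G.left ⨯ (yon S).obj To ⟶ _) ψ' ((yon S).map ι₀ ≫ e.hom) ρ := by
      refine IsPullback.of_isLimit' ⟨?_⟩ (PullbackCone.IsLimit.mk _
        (fun c => prod.lift (c.snd ≫ prod.snd ≫ prod.fst) c.fst) (fun c => prod.lift_snd _ _) (fun c => ?_)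
        (fun c m h1 h2 => ?_))
      · apply prod.hom_ext
        · simp [ρ, ψ', gm, f]; exact (prod.lift_fst _ _).symm
        · simp [ρ, ψ', hφ]; exact (prod.lift_snd _ _).symm
      · apply prod.hom_ext
        · have := congrArg (fun m => m ≫ prod.fst) c.condition
          simp [ρ, ψ', gm, f] at this ⊢
          exact this.trans (prod.lift_fst _ _)
        · apply prod.hom_ext
          · simp [ψ']
          · have := congrArg (fun m => m ≫ prod.snd) c.condition
            simp [ρ, ψ', hφ] at this ⊢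
            exact this.trans (prod.lift_snd _ _)
      · apply prod.hom_ext
        · simp [← h2, ψ']
        · simp [← h1]
    have hρ : Points.map ρ p = Points.map e.hom (Points.ofScheme Hs g₀) := by
      have h := huniq (Points.toScheme Hs (Points.map e.inv (Points.map ρ p))) (by
        rw [Points.ofPt_eq_map_ofScheme, Points.ofScheme_toScheme, ← Points.map_comp, e.inv_hom_id_assoc,
          ← Points.map_comp, prod.lift_fst, ← hc₁, ← hp₂, ← Points.map_comp, prod.map_fst, Category.comp_id])
      conv_rhs => rw [← h]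
      rw [Points.ofScheme_toScheme, ← Points.map_comp, e.inv_hom_id, Points.map_id]
    obtain ⟨P, -, hP⟩ := exists_of_isPullback sψ (Points.ofScheme To (IsLocalRing.closedPoint _)) p (by
      rw [hρ, Points.map_comp, ← Points.ofPt_eq_map_ofScheme ((yon S).map ι₀)]
      congr 1
      rw [← Points.ofScheme_toScheme Hs (Points.ofPt ((yon S).map ι₀) _), Points.toScheme_ofPt]
      congr 1
      exact Scheme.fromSpecResidueField_apply g₀ _)
    have hPd : Points.map prod.fst (Points.map τ.inv P) ∈ Set.range (Points.map ju) := by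
      rw [← Points.map_comp, hτ, Points.map_comp, show pm.left = ψ' ≫ prod.map (𝟙 _) prod.fst from
        (by apply prod.hom_ext <;> simp [pm, ψ']), Points.map_comp ψ', hP, hp₂]
      exact hcd
    obtain ⟨u, hu⟩ := hPd
    obtain ⟨w', -, hw'⟩ := exists_of_isPullback (IsPullback.of_prod_fst_with_id ju ((yon S).obj To)) u
      (Points.map τ.inv P) hu
    refine ⟨Points.map pi.inv w', ?_⟩
    rw [← Points.map_comp, show pi.inv ≫ jW ≫ prod.map (𝟙 _) ((yon S).map φ) =
      prod.map ju (𝟙 _) ≫ τ.hom ≫ ψ' ≫ prod.snd by simp [jW, ψ'], Points.map_comp, hw',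
      ← Points.map_comp, τ.inv_hom_id_assoc, Points.map_comp, hP, hp₁]
  obtain ⟨U, aU, hU, haU, hfib⟩ := exists_affine_fibre (Ω := Hs.left.residueField g₀) GS hGqs x φ (Iso.refl _)
    (by rw [Iso.refl_hom, Category.id_comp, ← hκ]; rfl) jW hjW hcov
  obtain ⟨X', j', hj', hrep', hx'⟩ := exists_scheme_nhd_of_affine_fibre GS hGqs x aU haU hfib
  obtain ⟨l, hl⟩ := hmax' X' j' hj' hrep'
  obtain ⟨y, hy⟩ := hx'
  exact ⟨Points.map l.hom y, by rw [← Points.map_comp]; exact (congrArg (fun f => Points.map f.hom y) hl).trans hy⟩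

end Groth.Agent.AlgSpB.GrpField
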