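import Groth.Agent.AlgSpB.GrpField.Stage
import Groth.Agent.AlgSpB.GrpField.GoodPoint
import Groth.Agent.AlgSpB.GrpField.FinCover
import Groth.Agent.AlgSp.LimSepAbs

/-!
# Affine neighbourhoods of the fibre over a point, over an algebraic extension of the base field
-/

universe u

open CategoryTheory CategoryTheory.Limits AlgebraicGeometry Opposite TensorProduct

set_option backward.isDefEq.respectTransparency false
set_option backward.isDefEq.respectTransparency.types false
set_option autoImplicit false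

namespace Groth.Agent.AlgSpB.GrpField

open _root_.AlgSp Groth.Agent.AlgSp

/-- Products are stable under base change in the second variable. -/
theorem isPullback_prod_snd {C : Type*} [Category C] [HasBinaryProducts C] (X : C) {A B : C} (φ : A ⟶ B) :
    IsPullback (prod.snd : X ⨯ A ⟶ A) (prod.map (𝟙 X) φ) φ (prod.snd : X ⨯ B ⟶ B) := by
  refine IsPullback.of_isLimit' ⟨by simp⟩ (PullbackCone.IsLimit.mk _
    (fun c => prod.lift (c.snd ≫ prod.fst) c.fst) (fun c => prod.lift_snd _ _) (fun c => ?_) (fun c m h1 h2 => ?_))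
  · apply prod.hom_ext
    · simp
    · simp [c.condition]
  · apply prod.hom_ext
    · simp [← h2]
    · simp [← h1]

variable {k : Type u} [Field k]

/-- The product with an affine scheme is affine over the first factor. -/
theorem repWith_affine_fst (Y : Sp (Spec (CommRingCat.of k))) (A : Over (Spec (CommRingCat.of k))) [IsAffine A.left] :
    RepWith @IsAffineHom (prod.fst : Y ⨯ (yon _).obj A ⟶ Y) := by
  let hT := LimSepAbs.isTerminalBase (S := Spec (CommRingCat.of k))
  have sq : IsPullback prod.fst prod.snd (hT.from Y) (hT.from ((yon _).obj A)) :=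
    IsPullback.of_is_product (prodIsProd Y ((yon _).obj A)) hT
  refine MorphismProperty.of_isPullback sq.flip ?_
  rw [hT.hom_ext (hT.from _) ((yon _).map (Over.homMk A.hom (Category.comp_id _) : A ⟶ Over.mk (𝟙 _)))]
  exact (repWith_yon_map_iff _ _).2 (inferInstanceAs (IsAffineHom A.hom))

/-- The product of a qcqs space with an affine scheme is qcqs. -/
theorem qcqs_prod {Y : Sp (Spec (CommRingCat.of k))} (hY : IsAlgSpace Y) (hqc : IsQuasiCompactSp Y)
    (hqs : IsQuasiSeparatedSp Y) (A : Over (Spec (CommRingCat.of k))) [IsAffine A.left] :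
    IsAlgSpace (Y ⨯ (yon _).obj A) ∧ IsQuasiCompactSp (Y ⨯ (yon _).obj A) ∧
      IsQuasiSeparatedSp (Y ⨯ (yon _).obj A) := by
  let hT := LimSepAbs.isTerminalBase (S := Spec (CommRingCat.of k))
  have h : IsAlgSpace (Y ⨯ (yon _).obj A) := Groth.Agent.AlgSp.isAlgSpace_of_isPullback' (IsAlgSpace.yon_obj _) hY
    (IsAlgSpace.yon_obj A) (IsPullback.of_is_product (prodIsProd Y ((yon _).obj A)) hT)
  refine ⟨h, isQuasiCompactMor_of_repWith hY
    (repWith_mono (fun g hg => (have : IsAffineHom g := hg; inferInstance : QuasiCompact g)) (repWith_affine_fst Y A))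
    hY hqc (𝟙 _) (𝟙 _) prod.fst (IsPullback.of_horiz_isIso ⟨(Category.id_comp _).trans (Category.comp_id _).symm⟩), ?_⟩
  exact LimAffine.isQuasiSeparatedSp_of_mor _ (repWith_mono
    (fun g hg => (have : IsClosedImmersion g := hg; inferInstance : QuasiCompact g))
    (LimMono.diagonal_of_isAffineMor h ((isAffineMor_iff _).2 (repWith_affine_fst Y A)))) hqs

/-- A base change of a monomorphism is an open immersion if the map is. -/
theorem repWith_of_comp_mono {S : Scheme.{u}} {A B C : Sp S} (f : A ⟶ B) (m : B ⟶ C) [Mono m]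
    (h : RepWith @IsOpenImmersion (f ≫ m)) : RepWith @IsOpenImmersion f := by
  refine MorphismProperty.of_isPullback (P := RepWith @IsOpenImmersion) (f := m) (g := f ≫ m) (f' := 𝟙 _) ?_ h
  exact IsPullback.of_isLimit' ⟨Category.id_comp _⟩ (PullbackCone.IsLimit.mk _
    (fun c => c.fst) (fun c => Category.comp_id _)
    (fun c => (cancel_mono m).1 (by rw [Category.assoc]; exact c.condition))
    (fun c m hm _ => by simpa using hm))

section

variable {L Ω : Type u} [Field L] [Field Ω] [Algebra k L] [Algebra L Ω]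

/-- The object `Spec L` over `Spec k`. -/
noncomputable abbrev extObj (k L : Type u) [Field k] [Field L] [Algebra k L] : Over (Spec (CommRingCat.of k)) :=
  Over.mk (Spec.map (CommRingCat.ofHom (algebraMap k L)))

set_option maxHeartbeats 3200000 in
/-- If an affine open over a field extension of `L` meets the fibres over all the preimages of a point, then these
preimages lie in an affine open over `L`. -/
theorem exists_affine_fibre [IsAlgClosed L] [Algebra.IsAlgebraic k L] (X : Space (Spec (CommRingCat.of k)))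
    (hqs : IsQuasiSeparatedSp X.obj) (x : Points X.obj) {To : Over (Spec (CommRingCat.of k))} (φ : To ⟶ extObj k L)
    (eK : Spec (CommRingCat.of Ω) ≅ To.left) (heK : eK.hom ≫ φ.left = Spec.map (CommRingCat.ofHom (algebraMap L Ω)))
    {W : Over (Spec (CommRingCat.of k))} [IsAffine W.left] (jW : (yon _).obj W ⟶ X.obj ⨯ (yon _).obj To)
    (hjW : RepWith @IsOpenImmersion jW)
    (hcov : ∀ f : Points (X.obj ⨯ (yon _).obj (extObj k L)), Points.map prod.fst f = x →
      ∃ w, Points.map (jW ≫ prod.map (𝟙 _) ((yon _).map φ)) w = f) :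
    ∃ (U : Over (Spec (CommRingCat.of k))) (a : (yon _).obj U ⟶ X.obj ⨯ (yon _).obj (extObj k L)),
      IsAffine U.left ∧ RepWith @IsOpenImmersion a ∧
      ∀ f, Points.map prod.fst f = x → f ∈ Set.range (Points.map a) := by
  classical
  let S := Spec (CommRingCat.of k)
  let hT := LimSepAbs.isTerminalBase (S := S)
  let Lo := extObj k L
  have := compactSpace_yon W
  obtain ⟨Y₀, jY, hjY, hYqc, hYqs, hKY⟩ := exists_qc_open hqs
    ((isCompact_singleton (x := x)).union (isCompact_range (Points.continuous_map (jW ≫ prod.fst))))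
  have := Groth.Agent.AlgSpB.mono_of_isOpenImmersion hjY
  obtain ⟨x₀, hx₀⟩ := hKY (Or.inl rfl)
  obtain ⟨l, hl⟩ := (Groth.Agent.AlgSpB.exists_factor_isOpenImmersion_iff hjY (jW ≫ prod.fst)).2
    fun y hy => hKY (Or.inr hy)
  let jW' : (yon S).obj W ⟶ Y₀.obj ⨯ (yon S).obj To := prod.lift l (jW ≫ prod.snd)
  have hjW'e : jW' ≫ prod.map jY.hom (𝟙 _) = jW := by
    apply prod.hom_ext
    · simp [jW', hl]; rfl
    · simp [jW']; rfl
  have hjW' : RepWith @IsOpenImmersion jW' := repWith_of_comp_mono jW' (prod.map jY.hom (𝟙 _)) (by rw [hjW'e]; exact hjW)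
  have : IsAffine Lo.left := inferInstanceAs (IsAffine (Spec _))
  obtain ⟨hY, hqc, hqs'⟩ := qcqs_prod Y₀.property hYqc hYqs Lo
  obtain ⟨A, hA, Ao, eA, χ, ω, heA, hω, πQ, hπ₂, hπ₁, T, j, hTaff, hj, hjr⟩ :=
    exists_stage (Spec.map (CommRingCat.ofHom (algebraMap k L))) hY hqc hqs' prod.snd φ eK heK _ _
      (isPullback_prod_snd Y₀.obj ((yon S).map φ)) jW' hjW'
  have : Algebra.FiniteType L A := ⟨(Subalgebra.fg_top _).2 hA⟩
  -- a field point over the point and the rings of the fibre
  obtain ⟨p, hp⟩ := Groth.Agent.AlgSpB.exists_eq_ofPt_toHom x₀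
  obtain ⟨κ, hκ⟩ := Spec.map_surjective (R := CommRingCat.of k) (S := CommRingCat.of p.K) p.str
  let : Algebra k p.K := κ.hom.toAlgebra
  let R := L ⊗[k] p.K
  let PA := (L ⊗[k] p.K) ⊗[L] A
  let Ro : Over S := Over.mk (Spec.map (CommRingCat.ofHom (algebraMap k (L ⊗[k] p.K))))
  let rL : Ro ⟶ Lo := Over.homMk (Spec.map (CommRingCat.ofHom (Algebra.TensorProduct.includeLeftRingHom))) (by
    refine (Spec.map_comp _ _).symm.trans (congrArg Spec.map (CommRingCat.hom_ext (RingHom.ext fun r => ?_)))
    rfl)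
  let rM : Ro ⟶ p.pt := Over.homMk
    (Spec.map (CommRingCat.ofHom (Algebra.TensorProduct.includeRight (R := k) (A := L) (B := p.K)).toRingHom)) (by
    change _ ≫ p.str = _
    rw [← hκ]
    refine (Spec.map_comp _ _).symm.trans (congrArg Spec.map (CommRingCat.hom_ext (RingHom.ext fun r => ?_)))
    exact (Algebra.TensorProduct.includeRight (R := k) (A := L) (B := p.K)).commutes r)
  have sR : IsPullback ((yon S).map rL) ((yon S).map rM) (hT.from _) (hT.from _) := by
    have h0 : IsPullback rL rM (Over.homMk Lo.hom (Category.comp_id _) : Lo ⟶ Over.mk (𝟙 S))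
        (Over.homMk p.pt.hom (Category.comp_id _) : p.pt ⟶ Over.mk (𝟙 S)) := by
      refine IsPullback.of_map (Over.forget S) (Over.OverMorphism.ext ((Over.w rL).trans (Over.w rM).symm)) ?_
      change IsPullback rL.left rM.left (Spec.map _) p.str
      rw [← hκ]
      exact isPullback_SpecMap_of_isPushout _ _ _ _ (CommRingCat.isPushout_tensorProduct k L p.K)
    have h1 := h0.map (yon S)
    rwa [hT.hom_ext ((yon S).map _) (hT.from _), hT.hom_ext ((yon S).map (Over.homMk p.pt.hom _ : p.pt ⟶ _)) (hT.from _)] at h1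
  let gF : (yon S).obj Ro ⟶ Y₀.obj ⨯ (yon S).obj Lo := prod.lift ((yon S).map rM ≫ p.toHom) ((yon S).map rL)
  have sF : IsPullback gF ((yon S).map rM) prod.fst p.toHom := by
    refine IsPullback.of_right (h₁₂ := prod.snd) (h₂₂ := hT.from Y₀.obj) (v₁₃ := hT.from _) ?_
      (prod.lift_fst _ _) (IsPullback.of_is_product (prodIsProd Y₀.obj ((yon S).obj Lo)) hT).flip
    rw [prod.lift_snd, hT.hom_ext (p.toHom ≫ _) (hT.from _)]
    exact sR
  let Po : Over S := Over.mk (Spec.map (CommRingCat.ofHom (algebraMap L ((L ⊗[k] p.K) ⊗[L] A))) ≫ Lo.hom)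
  let pA : Po ⟶ Ao := Over.homMk
    (Spec.map (CommRingCat.ofHom (Algebra.TensorProduct.includeRight (R := L) (A := L ⊗[k] p.K) (B := A)).toRingHom)
      ≫ eA.hom) (by
    rw [← Over.w χ, Category.assoc, reassoc_of% heA, ← Category.assoc, ← Spec.map_comp]
    change _ = Spec.map _ ≫ Lo.hom
    congr 2
    exact CommRingCat.hom_ext (RingHom.ext fun r =>
      (Algebra.TensorProduct.includeRight (R := L) (A := L ⊗[k] p.K) (B := A)).commutes r))
  let pR : Po ⟶ Ro := Over.homMk
    (Spec.map (CommRingCat.ofHom (algebraMap (L ⊗[k] p.K) ((L ⊗[k] p.K) ⊗[L] A)))) (by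
    rw [← Over.w rL, ← Category.assoc]
    change (Spec.map _ ≫ Spec.map _) ≫ Lo.hom = _
    rw [← Spec.map_comp]
    rfl)
  have hpP : pA ≫ χ = pR ≫ rL := Over.OverMorphism.ext (by
    change (Spec.map _ ≫ eA.hom) ≫ χ.left = Spec.map _ ≫ Spec.map _
    rw [Category.assoc, heA, ← Spec.map_comp, ← Spec.map_comp]
    exact congrArg Spec.map (CommRingCat.hom_ext (RingHom.ext fun r =>
      (Algebra.TensorProduct.includeRight (R := L) (A := L ⊗[k] p.K) (B := A)).commutes r)))
  have sP : IsPullback ((yon S).map pA) ((yon S).map pR) ((yon S).map χ) ((yon S).map rL) := by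
    refine (IsPullback.of_map (Over.forget S) hpP ?_).map (yon S)
    exact (isPullback_SpecMap_of_isPushout _ _ _ _ (CommRingCat.isPushout_tensorProduct L (L ⊗[k] p.K) A)).flip.of_iso
      (Iso.refl _) eA (Iso.refl _) (Iso.refl _) (by simp [pA]) (by simp [pR]; rfl) (by simpa using heA.symm) (by simp; rfl)
  let g : (yon S).obj Po ⟶ pullback ((yon S).map χ) (prod.snd : Y₀.obj ⨯ (yon S).obj Lo ⟶ _) :=
    pullback.lift ((yon S).map pA) ((yon S).map pR ≫ gF) (by rw [Category.assoc, prod.lift_snd]; exact sP.w)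
  have sg : IsPullback g ((yon S).map pR) (pullback.snd _ _) gF :=
    IsPullback.of_right (h₁₂ := pullback.fst ((yon S).map χ) prod.snd) (h₂₂ := prod.snd) (v₁₃ := (yon S).map χ)
      (by rw [pullback.lift_fst, prod.lift_snd]; exact sP) (pullback.lift_snd _ _ _) (IsPullback.of_hasPullback _ _)
  let O : Set (PrimeSpectrum ((L ⊗[k] p.K) ⊗[L] A)) := Points.ofPt g ⁻¹' Set.range (Points.map j)
  have hO : IsOpen O := (Groth.Agent.AlgSpB.isOpen_range_of_isOpenImmersion hj).preimage (Points.continuous_ofPt g)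
  have hfx : ∀ r : Ro.left, Points.map prod.fst (Points.ofPt gF r) = x₀ := fun r => by
    rw [Points.map_ofPt, prod.lift_fst, Groth.Agent.AlgSpB.ofPt_map_comp, hp]
  obtain ⟨s, hs⟩ := exists_good_point (k := k) (L := L) (M := p.K) hO fun f => by
    let r : Ro.left := f
    let f' := Points.map (prod.map jY.hom (𝟙 _)) (Points.ofPt gF r)
    obtain ⟨w, hw⟩ := hcov f' (by
      rw [← Points.map_comp, prod.map_fst, Points.map_comp, hfx, hx₀])
    have e : Points.map (jW' ≫ prod.map (𝟙 _) ((yon S).map φ)) w = Points.ofPt gF r := by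
      refine Groth.Agent.AlgSpB.injective_map_of_mono (prod.map jY.hom (𝟙 _)) ?_
      rw [← Points.map_comp, Category.assoc, prod.map_map, Category.id_comp, Category.comp_id]
      refine Eq.trans ?_ hw
      rw [← hjW'e, Category.assoc, prod.map_map, Category.id_comp, Category.comp_id]
    obtain ⟨q, hq₁, hq₂⟩ := Groth.Agent.AlgSpB.exists_of_isPullback sg (Points.map (jW' ≫ πQ) w) (Points.ofScheme Ro r) (by
      rw [← Points.map_comp, Category.assoc, hπ₂, e, ← Points.ofPt_eq_map_ofScheme])
    refine ⟨Points.toScheme Po q, ?_, ?_⟩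
    · refine Set.mem_preimage.2 ?_
      rw [Points.ofPt_eq_map_ofScheme, Points.ofScheme_toScheme, hq₁]
      exact hjr w
    · change pR.left (Points.toScheme Po q) = r
      rw [← Points.toScheme_ofPt, Points.ofPt_eq_map_ofScheme, Points.ofScheme_toScheme, hq₂,
        Points.toScheme_ofScheme]
  -- the section
  let so : Lo ⟶ Ao := Over.homMk (Spec.map (CommRingCat.ofHom s.toRingHom) ≫ eA.hom) (by
    rw [← Over.w χ, Category.assoc, reassoc_of% heA, ← Category.assoc, ← Spec.map_comp,
      show CommRingCat.ofHom (algebraMap L A) ≫ CommRingCat.ofHom s.toRingHom = 𝟙 _ from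
        CommRingCat.hom_ext (RingHom.ext s.commutes), Spec.map_id]; exact Category.id_comp _)
  have hso : so ≫ χ = 𝟙 Lo := Over.OverMorphism.ext (by
    change (Spec.map _ ≫ eA.hom) ≫ χ.left = 𝟙 _
    rw [Category.assoc, heA, ← Spec.map_comp, show CommRingCat.ofHom (algebraMap L A) ≫ CommRingCat.ofHom s.toRingHom =
      𝟙 _ from CommRingCat.hom_ext (RingHom.ext s.commutes), Spec.map_id])
  let sY : Y₀.obj ⨯ (yon S).obj Lo ⟶ pullback ((yon S).map χ) (prod.snd : Y₀.obj ⨯ (yon S).obj Lo ⟶ _) :=
    pullback.lift (prod.snd ≫ (yon S).map so) (𝟙 _) (by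
      rw [Category.assoc, ← Functor.map_comp, hso, CategoryTheory.Functor.map_id, Category.comp_id, Category.id_comp])
  have hsY : RepWith @IsAffineHom sY := by
    have : IsAffineHom so.left := inferInstanceAs (IsAffineHom (Spec.map _ ≫ eA.hom))
    refine MorphismProperty.of_isPullback (P := RepWith @IsAffineHom) (g := (yon S).map so)
      (f := pullback.fst ((yon S).map χ) prod.snd) (f' := prod.snd) ?_ ((repWith_yon_map_iff _ so).2 ‹_›)
    refine (IsPullback.of_right (h₁₂ := pullback.snd ((yon S).map χ) prod.snd) (h₂₂ := (yon S).map χ)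
      (v₁₃ := prod.snd) ?_ (pullback.lift_fst _ _ _) (IsPullback.of_hasPullback _ _).flip).flip
    rw [pullback.lift_snd, ← Functor.map_comp, hso, CategoryTheory.Functor.map_id]
    exact IsPullback.of_horiz_isIso ⟨(Category.id_comp _).trans (Category.comp_id _).symm⟩
  obtain ⟨U, snd, fst, sqU⟩ := hsY.1 j
  have : IsAffineHom snd.left := hsY.2 _ _ _ sqU
  refine ⟨U, fst ≫ prod.map jY.hom (𝟙 _), isAffine_of_isAffineHom snd.left,
    (RepWith @IsOpenImmersion : MorphismProperty (Sp S)).comp_mem _ _ (MorphismProperty.of_isPullback sqU.flip hj)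
      (MorphismProperty.of_isPullback (IsPullback.of_prod_fst_with_id jY.hom _) hjY), fun f hf => ?_⟩
  obtain ⟨f₀, hf₀, hf₀x⟩ := Groth.Agent.AlgSpB.exists_of_isPullback
    (IsPullback.of_prod_fst_with_id jY.hom ((yon S).obj Lo)) x₀ f (by rw [hx₀, hf])
  obtain ⟨q, hq, -⟩ := Groth.Agent.AlgSpB.exists_of_isPullback sF f₀ (Points.ofScheme p.pt (IsLocalRing.closedPoint p.K))
    (by rw [hf₀, ← Points.ofPt_eq_map_ofScheme, hp])
  rw [← Points.ofScheme_toScheme Ro q, ← Points.ofPt_eq_map_ofScheme] at hq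
  let r := Points.toScheme Ro q
  let e : Ro ⟶ Po := Over.homMk (Spec.map (CommRingCat.ofHom (evalAt k p.K s).toRingHom)) (by
    change _ ≫ Spec.map _ ≫ Lo.hom = _
    rw [← Category.assoc, ← Spec.map_comp, ← Over.w rL]
    change _ = Spec.map _ ≫ Lo.hom
    congr 2
    exact CommRingCat.hom_ext (RingHom.ext fun r => (evalAt k p.K s).commutes r))
  have he : (yon S).map e ≫ g = gF ≫ sY := by
    apply pullback.hom_ext
    · rw [Category.assoc, Category.assoc, pullback.lift_fst, pullback.lift_fst, prod.lift_snd_assoc,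
        ← Functor.map_comp, ← Functor.map_comp]
      congr 1
      apply Over.OverMorphism.ext
      change Spec.map _ ≫ Spec.map _ ≫ eA.hom = Spec.map _ ≫ Spec.map _ ≫ eA.hom
      rw [← Category.assoc, ← Category.assoc, ← Spec.map_comp, ← Spec.map_comp]
      congr 2
      exact CommRingCat.hom_ext (RingHom.ext fun a => by simp [evalAt])
    · rw [Category.assoc, Category.assoc, pullback.lift_snd, pullback.lift_snd, Category.comp_id,
        ← Functor.map_comp_assoc]
      have : e ≫ pR = 𝟙 Ro := Over.OverMorphism.ext (by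
        change Spec.map _ ≫ Spec.map _ = 𝟙 _
        rw [← Spec.map_comp, ← Spec.map_id]
        exact congrArg Spec.map (CommRingCat.hom_ext (RingHom.ext fun a => by simp [evalAt, ← Algebra.TensorProduct.one_def])))
      rw [this, CategoryTheory.Functor.map_id, Category.id_comp]
  have hmem : Points.map sY f₀ ∈ Set.range (Points.map j) := by
    rw [← hq, Points.map_ofPt, ← he, Groth.Agent.AlgSpB.ofPt_map_comp]
    exact hs r
  obtain ⟨y, hy⟩ := hmem
  obtain ⟨u, hu, -⟩ := Groth.Agent.AlgSpB.exists_of_isPullback sqU f₀ y hy.symm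
  exact ⟨u, by rw [Points.map_comp, hu, hf₀x]⟩

set_option maxHeartbeats 1600000 in
/-- A point whose preimages over an algebraic field extension lie in an affine open has a scheme neighbourhood. -/
theorem exists_scheme_nhd_of_affine_fibre [Algebra.IsAlgebraic k L] (X : Space (Spec (CommRingCat.of k)))
    (hqs : IsQuasiSeparatedSp X.obj) (x : Points X.obj)
    {U : Over (Spec (CommRingCat.of k))} [IsAffine U.left] (a : (yon _).obj U ⟶ X.obj ⨯ (yon _).obj (extObj k L))
    (ha : RepWith @IsOpenImmersion a)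
    (hU : ∀ f, Points.map prod.fst f = x → f ∈ Set.range (Points.map a)) :
    ∃ (X' : Space (Spec (CommRingCat.of k))) (j : X' ⟶ X), RepWith @IsOpenImmersion j.hom ∧
      X'.obj.obj.IsRepresentable ∧ x ∈ Set.range (Points.map j.hom) := by
  classical
  let S := Spec (CommRingCat.of k)
  let hT := LimSepAbs.isTerminalBase (S := S)
  let Lo := extObj k L
  have := compactSpace_yon U
  obtain ⟨Y₀, jY, hjY, hYqc, hYqs, hKY⟩ := exists_qc_open hqs
    ((isCompact_singleton (x := x)).union (isCompact_range (Points.continuous_map (a ≫ prod.fst))))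
  have := Groth.Agent.AlgSpB.mono_of_isOpenImmersion hjY
  obtain ⟨x₀, hx₀⟩ := hKY (Or.inl rfl)
  obtain ⟨l, hl⟩ := (Groth.Agent.AlgSpB.exists_factor_isOpenImmersion_iff hjY (a ≫ prod.fst)).2
    fun y hy => hKY (Or.inr hy)
  let a' : (yon S).obj U ⟶ Y₀.obj ⨯ (yon S).obj Lo := prod.lift l (a ≫ prod.snd)
  have ha'e : a' ≫ prod.map jY.hom (𝟙 _) = a := by
    apply prod.hom_ext
    · simp [a', hl]; rfl
    · simp [a']; rfl
  have ha' : RepWith @IsOpenImmersion a' := repWith_of_comp_mono a' (prod.map jY.hom (𝟙 _)) (by rw [ha'e]; exact ha)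
  let φ : Lo ⟶ Over.mk (𝟙 S) := Over.homMk Lo.hom (Category.comp_id _)
  have sq : IsPullback prod.snd prod.fst ((yon S).map φ) (hT.from Y₀.obj) := by
    rw [hT.hom_ext ((yon S).map φ) (hT.from _)]
    exact (IsPullback.of_is_product (prodIsProd Y₀.obj ((yon S).obj Lo)) hT).flip
  obtain ⟨A, hA, Ao, eA, χ, ω, heA, hω, πQ, hπ₂, hπ₁, T, j, hTaff, hj, hjr⟩ :=
    exists_stage (𝟙 S) Y₀.property hYqc hYqs (hT.from Y₀.obj) φ (Iso.refl _) (Category.id_comp _) _ _ sq a' ha'
  have : Algebra.IsIntegral k L := Algebra.IsAlgebraic.isIntegral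
  have : Algebra.FiniteType k A := ⟨(Subalgebra.fg_top _).2 hA⟩
  have : Algebra.IsIntegral k A :=
    ⟨fun r => (isIntegral_algHom_iff A.val Subtype.val_injective).1 (Algebra.IsIntegral.isIntegral (r : L))⟩
  have : Module.Finite k A := Algebra.IsIntegral.finite
  have hAf : IsField A := isField_of_isIntegral_of_isField' (R := k) (Field.toIsField k)
  have hAs : Subsingleton (Spec (CommRingCat.of A)) :=
    (letI := hAf.toField; inferInstance : Subsingleton (PrimeSpectrum A))
  have hχ : χ.left = eA.inv ≫ Spec.map (CommRingCat.ofHom (algebraMap k A)) := by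
    rw [← heA, eA.inv_hom_id_assoc]
  have hχf : finLocFree χ.left := by
    have h1 : IsFinite (Spec.map (CommRingCat.ofHom (algebraMap k A))) :=
      (IsFinite.SpecMap_iff _).2 (RingHom.finite_algebraMap.2 inferInstance)
    have h2 : Flat (Spec.map (CommRingCat.ofHom (algebraMap k A))) := Groth.Agent.AlgSpB.flat_of_field _
    have h3 : LocallyOfFinitePresentation (Spec.map (CommRingCat.ofHom (algebraMap k A))) :=
      (LocallyOfFinitePresentation.SpecMap_iff _).2
        (RingHom.finitePresentation_algebraMap.2 (Algebra.FinitePresentation.of_finiteType.1 ‹_›))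
    rw [hχ]
    exact ⟨inferInstance, inferInstance, inferInstance⟩
  have hχs : Surjective χ.left := by
    refine ⟨fun y => ?_⟩
    obtain ⟨w⟩ : Nonempty Lo.left := inferInstanceAs (Nonempty (PrimeSpectrum L))
    have : Subsingleton (Over.mk (𝟙 S)).left := inferInstanceAs (Subsingleton (PrimeSpectrum k))
    exact ⟨ω.left w, Subsingleton.elim _ _⟩
  have hωs : Surjective ω.left := by
    refine ⟨fun y => ?_⟩
    obtain ⟨w⟩ : Nonempty Lo.left := inferInstanceAs (Nonempty (PrimeSpectrum L))
    exact ⟨w, eA.inv.homeomorph.injective (hAs.elim _ _)⟩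
  let X₁ : Space S := ⟨pullback ((yon S).map χ) (hT.from Y₀.obj),
    Groth.Agent.AlgSp.isAlgSpace_pullback (IsAlgSpace.yon_obj _) (IsAlgSpace.yon_obj Ao) Y₀.property _ _⟩
  let f : X₁ ⟶ Y₀ := ObjectProperty.homMk (pullback.snd ((yon S).map χ) (hT.from Y₀.obj))
  have hf : IsFinLocFreeMor f.hom :=
    MorphismProperty.of_isPullback (P := RepWith finLocFree) (IsPullback.of_hasPullback _ _)
      ((repWith_yon_map_iff _ χ).2 hχf)
  have hfs : RepWith @Surjective f.hom :=
    MorphismProperty.of_isPullback (IsPullback.of_hasPullback _ _) ((repWith_yon_map_iff _ χ).2 hχs)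
  have sQ : IsPullback πQ prod.snd (pullback.fst ((yon S).map χ) (hT.from Y₀.obj)) ((yon S).map ω) :=
    IsPullback.of_right (h₁₂ := pullback.snd ((yon S).map χ) (hT.from Y₀.obj)) (h₂₂ := (yon S).map χ)
      (v₁₃ := hT.from Y₀.obj) (by rw [hπ₂, ← Functor.map_comp, hω]; exact sq.flip) hπ₁
      (IsPullback.of_hasPullback _ _).flip
  obtain ⟨Y', j', hj', hrep, hxY⟩ := exists_scheme_nhd_of_fibre f hf hfs x₀ j hj fun z hz => by
    obtain ⟨w⟩ : Nonempty Lo.left := inferInstanceAs (Nonempty (PrimeSpectrum L))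
    obtain ⟨w', hw'⟩ := hωs.surj (Points.toScheme Ao (Points.map (pullback.fst _ _) z))
    obtain ⟨q, hq, -⟩ := Groth.Agent.AlgSpB.exists_of_isPullback sQ z (Points.ofScheme Lo w') (by
      rw [← Points.ofPt_eq_map_ofScheme, ← Points.ofScheme_toScheme Ao (Points.map (pullback.fst _ _) z), ← hw']
      exact ((congrArg (fun f => Points.ofPt f w') (Category.comp_id _).symm).trans
        (Groth.Agent.AlgSpB.ofPt_map_comp ω (𝟙 _) w')).symm)
    have hqx : Points.map prod.fst (Points.map (prod.map jY.hom (𝟙 _)) q) = x := by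
      rw [← Points.map_comp, prod.map_fst, Points.map_comp, ← hπ₂, Points.map_comp, hq]
      exact (congrArg _ hz).trans hx₀
    obtain ⟨v, hv⟩ := hU _ hqx
    rw [← ha'e, Points.map_comp] at hv
    have hv' := Groth.Agent.AlgSpB.injective_map_of_mono (prod.map jY.hom (𝟙 _)) hv
    obtain ⟨t, ht⟩ := hjr v
    refine ⟨Points.toScheme T t, ?_⟩
    rw [Points.ofPt_eq_map_ofScheme, Points.ofScheme_toScheme, ht, Points.map_comp, hv', hq]
  refine ⟨Y', j' ≫ jY, (RepWith @IsOpenImmersion : MorphismProperty (Sp S)).comp_mem _ _ hj' hjY, hrep, ?_⟩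
  obtain ⟨y, hy⟩ := hxY
  exact ⟨y, (Points.map_comp j'.hom jY.hom y).trans ((congrArg _ hy).trans hx₀)⟩

end

end Groth.Agent.AlgSpB.GrpField
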