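import Groth.Agent.AlgSpB.BigField.Locus
import Groth.Agent.AlgSp.LimImm2

/-!
# Affine opens over a field extension come from finitely generated subalgebras
-/

universe u

open CategoryTheory CategoryTheory.Limits AlgebraicGeometry Opposite

set_option backward.isDefEq.respectTransparency false
set_option backward.isDefEq.respectTransparency.types false
set_option autoImplicit false

attribute [local instance] CategoryTheory.isConnected_of_hasTerminal

namespace Groth.Agent.AlgSpB.GrpField

open _root_.AlgSp Groth.Agent.AlgSp Groth.Agent.AlgSp.LimSep Groth.Agent.AlgSp.LimAffineMor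

variable {S : Scheme.{u}}

section

variable {I : Type u} [SmallCategory I] [IsCofiltered I] {Y P : Sp S} {D : I ⥤ Sp S}
  (t : D ⟶ (Functor.const I).obj Y) (z : P ⟶ Y)

/-- The base change of the limit is the limit of the base changes, compatibly with the projections. -/
theorem exists_limit'' {c : Cone D} (hc : IsLimit c) {g : c.pt ⟶ Y} (hg : ∀ i, c.π.app i ≫ tY t i = g)
    {Q : Sp S} {q : Q ⟶ c.pt} {p : Q ⟶ P} (sq : IsPullback q p g z) :
    ∃ (π : ∀ i, Q ⟶ pullback (tY t i) z) (C : Cone (bcSys t z)) (_ : IsLimit C) (e : Q ≅ C.pt),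
      (∀ i, e.hom ≫ C.π.app i = π i) ∧ (∀ i, π i ≫ pullback.snd (tY t i) z = p) ∧
        ∀ i, π i ≫ pullback.fst (tY t i) z = q ≫ c.π.app i := by
  let π : ∀ i, Q ⟶ pullback (tY t i) z := fun i =>
    pullback.lift (q ≫ c.π.app i) p (by rw [Category.assoc, hg, sq.w])
  let C : Cone (bcSys t z) :=
    { pt := Q
      π :=
        { app := π
          naturality := fun i j a => by
            refine (Category.id_comp _).trans ?_
            change _ = _ ≫ bcMap t z a
            apply pullback.hom_ext <;> simp [π] } }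
  let p1 : bcSys t z ⟶ D :=
    { app := fun i => pullback.fst (tY t i) z
      naturality := fun i j a => bcMap_fst t z a }
  obtain ⟨i₀⟩ := IsCofiltered.nonempty (C := I)
  have hw : ∀ s : Cone (bcSys t z),
      hc.lift ((Cone.postcompose p1).obj s) ≫ g = (s.π.app i₀ ≫ pullback.snd (tY t i₀) z) ≫ z := fun s => by
    rw [← hg i₀, hc.fac_assoc]
    simp only [Cone.postcompose_obj_π, NatTrans.comp_app, Category.assoc, p1]
    exact congrArg (fun k => s.π.app i₀ ≫ k) pullback.condition
  have hconst : ∀ (s : Cone (bcSys t z)) (j : I),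
      s.π.app j ≫ pullback.snd (tY t j) z = s.π.app i₀ ≫ pullback.snd (tY t i₀) z := fun s j => by
    obtain ⟨k, a, b, -⟩ := IsCofilteredOrEmpty.cone_objs j i₀
    rw [← s.w a, ← s.w b]
    change (s.π.app k ≫ bcMap t z a) ≫ _ = (s.π.app k ≫ bcMap t z b) ≫ _
    simp
  refine ⟨π, C, IsLimit.mk (fun s => sq.lift _ _ (hw s)) (fun s j => ?_) (fun s m hm => ?_), Iso.refl _,
    fun i => Category.id_comp _, fun i => pullback.lift_snd _ _ _, fun i => pullback.lift_fst _ _ _⟩
  · apply pullback.hom_ext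
    · simp only [C, π, Category.assoc, pullback.lift_fst, IsPullback.lift_fst_assoc]
      exact hc.fac _ j
    · simp only [C, π, Category.assoc, pullback.lift_snd, IsPullback.lift_snd]
      exact (hconst s j).symm
  · apply sq.hom_ext
    · rw [IsPullback.lift_fst]
      refine hc.hom_ext fun j => ?_
      rw [hc.fac, Category.assoc]
      simp only [Cone.postcompose_obj_π, NatTrans.comp_app, p1]
      rw [← hm j]
      simp [C, π]
    · rw [IsPullback.lift_snd, ← hm i₀]
      simp [C, π]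
end

section

variable {L K : Type u} [Field L] [Field K] [Algebra L K]

/-- An affine open of the base change to a field extension maps into an affine open over a finitely generated
subalgebra. -/
theorem exists_stage [QuasiSeparatedSpace S] (σ : Spec (CommRingCat.of L) ⟶ S)
    {Y₀ : Sp S} (hY : IsAlgSpace Y₀) (hYqc : IsQuasiCompactSp Y₀) (hYqs : IsQuasiSeparatedSp Y₀)
    (π₀ : Y₀ ⟶ (yon S).obj (Over.mk σ)) {Ko : Over S} (φ : Ko ⟶ Over.mk σ) (eK : Spec (CommRingCat.of K) ≅ Ko.left)
    (heK : eK.hom ≫ φ.left = Spec.map (CommRingCat.ofHom (algebraMap L K)))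
    {Q : Sp S} (qK : Q ⟶ (yon S).obj Ko) (qY : Q ⟶ Y₀) (sq : IsPullback qK qY ((yon S).map φ) π₀)
    {W : Over S} [IsAffine W.left] (jW : (yon S).obj W ⟶ Q) (hjW : RepWith @IsOpenImmersion jW) :
    ∃ (A : Subalgebra L K) (_ : A.FG) (Ao : Over S) (eA : Spec (CommRingCat.of A) ≅ Ao.left) (χ : Ao ⟶ Over.mk σ)
      (ω : Ko ⟶ Ao),
      eA.hom ≫ χ.left = Spec.map (CommRingCat.ofHom (algebraMap L A)) ∧ ω ≫ χ = φ ∧
      ∃ (πQ : Q ⟶ pullback ((yon S).map χ) π₀), πQ ≫ pullback.snd ((yon S).map χ) π₀ = qY ∧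
        πQ ≫ pullback.fst ((yon S).map χ) π₀ = qK ≫ (yon S).map ω ∧
      ∃ (T : Over S) (j : (yon S).obj T ⟶ pullback ((yon S).map χ) π₀), IsAffine T.left ∧
        RepWith @IsOpenImmersion j ∧ ∀ y, Points.map (jW ≫ πQ) y ∈ Set.range (Points.map j) := by
  classical
  let Lo : Over S := Over.mk σ
  let st : ∀ s : (Finset K)ᵒᵖ, (Groth.Agent.LimLib.fgDiagram L K).obj s ⟶ Spec (CommRingCat.of L) := fun s =>
    Spec.map (CommRingCat.ofHom (algebraMap L (Algebra.adjoin L (s.unop : Set K))))
  have hst : ∀ {s s' : (Finset K)ᵒᵖ} (f : s ⟶ s'), (Groth.Agent.LimLib.fgDiagram L K).map f ≫ st s' = st s :=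
    fun {s s'} f => by
      refine (Spec.map_comp _ _).symm.trans (congrArg Spec.map ?_)
      ext r
      rfl
  let DA : (Finset K)ᵒᵖ ⥤ Over S :=
    { obj := fun s => Over.mk (st s ≫ σ)
      map := fun {s s'} f => Over.homMk ((Groth.Agent.LimLib.fgDiagram L K).map f) (by
        change _ ≫ st s' ≫ σ = st s ≫ σ
        rw [← Category.assoc, hst f])
      map_id := fun s => Over.OverMorphism.ext ((Groth.Agent.LimLib.fgDiagram L K).map_id s)
      map_comp := fun f g => Over.OverMorphism.ext ((Groth.Agent.LimLib.fgDiagram L K).map_comp f g) }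
  let χ : ∀ s, DA.obj s ⟶ Lo := fun s => Over.homMk (st s) rfl
  have hcK : ∀ s, ((Groth.Agent.LimLib.fgCone L K).π.app s) ≫ st s = Spec.map (CommRingCat.ofHom (algebraMap L K)) :=
    fun s => by
      refine (Spec.map_comp _ _).symm.trans (congrArg Spec.map ?_)
      ext r
      rfl
  let cA : Cone DA :=
    { pt := Ko
      π :=
        { app := fun s => Over.homMk (eK.inv ≫ (Groth.Agent.LimLib.fgCone L K).π.app s) (by
            change (eK.inv ≫ _) ≫ st s ≫ σ = Ko.hom
            rw [Category.assoc, reassoc_of% hcK s, ← heK, Category.assoc, eK.inv_hom_id_assoc]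
            exact Over.w φ)
          naturality := fun s s' f => Over.OverMorphism.ext (by
            change 𝟙 _ ≫ eK.inv ≫ _ = (eK.inv ≫ _) ≫ (Groth.Agent.LimLib.fgDiagram L K).map f
            rw [Category.id_comp, Category.assoc, Cone.w]) } }
  have hcA : IsLimit cA := isLimitOfReflects (Over.forget S)
    (IsLimit.ofIsoLimit (Groth.Agent.LimLib.isLimitFgCone L K)
      (Cone.ext eK (fun s => by exact (eK.hom_inv_id_assoc _).symm)))
  let D := DA ⋙ yon S
  let c := (yon S).mapCone cA
  have hc : IsLimit c := isLimitOfPreserves (yon S) hcA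
  let t : D ⟶ (Functor.const (Finset K)ᵒᵖ).obj ((yon S).obj Lo) :=
    { app := fun s => (yon S).map (χ s)
      naturality := fun s s' f => by
        refine Eq.trans ?_ (Category.comp_id _).symm
        exact ((yon S).map_comp _ _).symm.trans (congrArg (yon S).map (Over.OverMorphism.ext (hst f))) }
  have hω : ∀ s, cA.π.app s ≫ χ s = φ := fun s => Over.OverMorphism.ext (by
    change (eK.inv ≫ _) ≫ st s = φ.left
    rw [Category.assoc, hcK s, ← heK, eK.inv_hom_id_assoc])
  have hg : ∀ s, c.π.app s ≫ tY t s = (yon S).map φ := fun s =>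
    ((yon S).map_comp _ _).symm.trans (congrArg (yon S).map (hω s))
  obtain ⟨πQ, C, hC, eQ, heQ, hπ₂, hπ₁⟩ := exists_limit'' t π₀ hc hg sq
  have hDaff : ∀ s, IsAffine (DA.obj s).left := fun s => inferInstanceAs (IsAffine (Spec _))
  have hDa : ∀ (s s' : (Finset K)ᵒᵖ) (f : s ⟶ s'), IsAffineMor (D.map f) :=
    Groth.Agent.AlgSp.LimLP.isAffineMor_yon_map hDaff
  have hB : ∀ s, IsAlgSpace ((bcSys t π₀).obj s) := fun s =>
    Groth.Agent.AlgSp.isAlgSpace_pullback (IsAlgSpace.yon_obj Lo) (IsAlgSpace.yon_obj (DA.obj s)) hY _ _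
  have hBa := isAffineMor_bcSys t π₀ hDa
  have hBq : ∀ s, IsQuasiCompactSp ((bcSys t π₀).obj s) ∧ IsQuasiSeparatedSp ((bcSys t π₀).obj s) := fun s => by
    have : IsAffineHom (χ s).left := inferInstanceAs (IsAffineHom (Spec.map _))
    have hsnd : RepWith @IsAffineHom (pullback.snd (tY t s) π₀) :=
      MorphismProperty.of_isPullback (IsPullback.of_hasPullback (tY t s) π₀)
        ((repWith_yon_map_iff _ (χ s)).2 ‹_›)
    exact ⟨Groth.Agent.AlgSp.isQuasiCompactMor_of_repWith hY
      (Groth.Agent.AlgSp.repWith_mono (fun g hg => (have : IsAffineHom g := hg; inferInstance : QuasiCompact g)) hsnd)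
      hY hYqc (𝟙 _) (𝟙 _) (pullback.snd (tY t s) π₀) (IsPullback.of_horiz_isIso ⟨(Category.id_comp _).trans (Category.comp_id _).symm⟩),
    Groth.Agent.AlgSp.LimAffine.isQuasiSeparatedSp_of_mor _ (Groth.Agent.AlgSp.repWith_mono
      (fun g hg => (have : IsClosedImmersion g := hg; inferInstance : QuasiCompact g))
      (Groth.Agent.AlgSp.LimMono.diagonal_of_isAffineMor (hB s) ((Groth.Agent.AlgSp.isAffineMor_iff _).2 hsnd))) hYqs⟩
  obtain ⟨i, T, j, hT, hj, hjr⟩ := BigField.exists_affine_open_stage hB hBa (fun s => (hBq s).1) (fun s => (hBq s).2) hC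
    (jW ≫ eQ.hom) ((MorphismProperty.cancel_right_of_respectsIso (RepWith @IsOpenImmersion) jW eQ.hom).2 hjW)
  refine ⟨Algebra.adjoin L (i.unop : Set K), ⟨i.unop, rfl⟩, DA.obj i, Iso.refl _, χ i, cA.π.app i,
    Category.id_comp _, hω i, eQ.hom ≫ C.π.app i, ?_, ?_, T, j, hT, hj, fun y => ?_⟩
  · rw [heQ]; exact hπ₂ i
  · rw [heQ]
    exact hπ₁ i
  · rw [← Category.assoc]; exact hjr y

end

/-- A compact set of points lies in a quasi-compact open subspace. -/
theorem exists_qc_open {X : Space S} (hqs : IsQuasiSeparatedSp X.obj) {K : Set (Points X.obj)} (hK : IsCompact K) :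
    ∃ (Y₀ : Space S) (j : Y₀ ⟶ X), RepWith @IsOpenImmersion j.hom ∧ IsQuasiCompactSp Y₀.obj ∧
      IsQuasiSeparatedSp Y₀.obj ∧ K ⊆ Set.range (Points.map j.hom) := by
  obtain ⟨Z, a, hZ, ha, haK⟩ := LimImm.exists_affine_chart_of_isCompact X.property hK
  obtain ⟨Y₀, j, hj, hjr⟩ := Groth.Agent.AlgSpB.exists_openSubspace X
    (Groth.Agent.AlgSpB.isOpenMap_ofPt ha).isOpen_range
  have : Mono j.hom := Groth.Agent.AlgSpB.mono_of_isOpenImmersion hj
  obtain ⟨a', -, ha', ha's⟩ := Groth.Agent.AlgSpB.exists_chart_into_subspace ha hj hjr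
  refine ⟨Y₀, j, hj, ⟨_, a', ha', ha's, inferInstance⟩, ?_, hjr ▸ haK⟩
  refine LimAffine.isQuasiSeparatedSp_of_mor j.hom ?_ hqs
  have : IsIso (pullback.diagonal j.hom) := (pullback.isIso_diagonal_iff j.hom).2 inferInstance
  refine ⟨Functor.relativelyRepresentable.of_isIso (F := yon S) _, fun _ _ g fst snd sq => ?_⟩
  have : IsIso ((yon S).map snd) := sq.isIso_snd_of_isIso
  have : IsIso snd := isIso_of_reflects_iso _ (yon S)
  have : IsIso snd.left := inferInstanceAs (IsIso ((Over.forget S).map snd))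
  exact (inferInstance : QuasiCompact snd.left)

end Groth.Agent.AlgSpB.GrpField
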