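import Groth.Agent.AlgSpB.GrpField.FibreCover
import Mathlib.RingTheory.TensorProduct.MvPolynomial
import Mathlib.RingTheory.LocalRing.ResidueField.Ideal
import Mathlib.FieldTheory.IsAlgClosed.AlgebraicClosure

/-!
# Descent of representability along purely transcendental extensions
-/

universe u

open CategoryTheory CategoryTheory.Limits AlgebraicGeometry Opposite TensorProduct

set_option backward.isDefEq.respectTransparency false
set_option backward.isDefEq.respectTransparency.types false
set_option autoImplicit false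
set_option synthInstance.maxHeartbeats 200000

namespace Groth.Agent.AlgSpB.GrpField

open _root_.AlgSp Groth.Agent.AlgSp

variable {k : Type u} [Field k]

section Algebra

variable (k) (ι : Type u) (L : Type u) [Field L] [Algebra k L]

/-- The purely transcendental extension in the variables `ι`. -/
abbrev RatF (L : Type u) [Field L] : Type u := FractionRing (MvPolynomial ι L)

/-- The map of purely transcendental extensions induced by a map of fields. -/
noncomputable def ratFMap {L L' : Type u} [Field L] [Field L'] [Algebra k L] [Algebra k L'] (φ : L →ₐ[k] L') :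
    RatF ι L →ₐ[k] RatF ι L' :=
  IsFractionRing.liftAlgHom (A := MvPolynomial ι L) (g := (IsScalarTower.toAlgHom k (MvPolynomial ι L') (RatF ι L')).comp
    (MvPolynomial.mapAlgHom φ))
    ((IsFractionRing.injective (MvPolynomial ι L') (RatF ι L')).comp (MvPolynomial.map_injective _ φ.injective))

variable {k ι L}

theorem ratFMap_algebraMap {L L' : Type u} [Field L] [Field L'] [Algebra k L] [Algebra k L'] (φ : L →ₐ[k] L')
    (p : MvPolynomial ι L) :
    ratFMap k ι φ (algebraMap _ _ p) = algebraMap _ _ (MvPolynomial.map φ.toRingHom p) := by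
  rw [ratFMap, IsFractionRing.liftAlgHom_apply, IsFractionRing.lift_algebraMap]
  rfl

variable {M : Type u} [Field M] [Algebra k M]

/-- Polynomials with coefficients in `M`. -/
noncomputable def tensorPolyHom (k M ι : Type u) [Field k] [Field M] [Algebra k M] :
    MvPolynomial ι k ⊗[k] M →ₐ[k] MvPolynomial ι M :=
  Algebra.TensorProduct.lift (MvPolynomial.mapAlgHom (Algebra.ofId k M))
    (IsScalarTower.toAlgHom k M (MvPolynomial ι M)) fun _ _ => Commute.all _ _

theorem tensorPolyHom_tmul {k M ι : Type u} [Field k] [Field M] [Algebra k M] (p : MvPolynomial ι k) (m : M) :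
    tensorPolyHom k M ι (p ⊗ₜ m) = MvPolynomial.map (algebraMap k M) p * MvPolynomial.C m :=
  Algebra.TensorProduct.lift_tmul _ _ _ _ _

theorem tensorPolyHom_injective (k M ι : Type u) [Field k] [Field M] [Algebra k M] :
    Function.Injective (tensorPolyHom k M ι) := by
  have e : ∀ z, tensorPolyHom k M ι z =
      MvPolynomial.algebraTensorAlgEquiv (σ := ι) k M (TensorProduct.comm k (MvPolynomial ι k) M z) := fun z => by
    induction z using TensorProduct.induction_on with
    | zero => simp
    | tmul p m => simp [tensorPolyHom_tmul, MvPolynomial.smul_eq_C_mul, mul_comm]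
    | add x y hx hy => simp [hx, hy]
  intro x y h
  rw [e, e] at h
  exact (TensorProduct.comm k (MvPolynomial ι k) M).injective ((MvPolynomial.algebraTensorAlgEquiv (σ := ι) k M).injective h)

set_option maxHeartbeats 800000 in
/-- Every prime of `L ⊗ M` lies under a prime of `L(t) ⊗ M` which is generic over `k(t) ⊗ M`. -/
theorem exists_generic_prime (f : PrimeSpectrum (L ⊗[k] M)) :
    ∃ q : PrimeSpectrum (RatF ι L ⊗[k] M),
      PrimeSpectrum.comap (Algebra.TensorProduct.map (IsScalarTower.toAlgHom k L (RatF ι L)) (AlgHom.id k M)).toRingHom q = f ∧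
      ∀ z : RatF ι k ⊗[k] M,
        Algebra.TensorProduct.map (ratFMap k ι (Algebra.ofId k L)) (AlgHom.id k M) z ∈ q.asIdeal → z = 0 := by
  let F := f.asIdeal.ResidueField
  let ρ : (L ⊗[k] M) →ₐ[k] F := IsScalarTower.toAlgHom k _ F
  let ρL : L →ₐ[k] F := ρ.comp Algebra.TensorProduct.includeLeft
  let ρM : M →ₐ[k] F := ρ.comp Algebra.TensorProduct.includeRight
  let cF : F →ₐ[k] RatF ι F := IsScalarTower.toAlgHom k F _
  let h : RatF ι L ⊗[k] M →ₐ[k] RatF ι F :=
    Algebra.TensorProduct.lift (ratFMap k ι ρL) (cF.comp ρM) fun _ _ => Commute.all _ _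
  refine ⟨⟨RingHom.ker h.toRingHom, RingHom.ker_isPrime _⟩, ?_, fun z hz => ?_⟩
  · have e : h.comp (Algebra.TensorProduct.map (IsScalarTower.toAlgHom k L (RatF ι L)) (AlgHom.id k M)) = cF.comp ρ := by
      apply Algebra.TensorProduct.ext
      · refine AlgHom.ext fun l => ?_
        simp [h, cF, ρL]
        rw [IsScalarTower.algebraMap_apply L (MvPolynomial ι L) (RatF ι L), ratFMap_algebraMap,
          MvPolynomial.algebraMap_eq, MvPolynomial.map_C, ← MvPolynomial.algebraMap_eq,
          ← IsScalarTower.algebraMap_apply]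
        rfl
      · refine AlgHom.ext fun m => ?_
        simp [h, cF, ρM]
    ext r
    rw [PrimeSpectrum.comap_asIdeal, Ideal.mem_comap, RingHom.mem_ker]
    change h (Algebra.TensorProduct.map _ _ r) = 0 ↔ _
    rw [← AlgHom.comp_apply, e, AlgHom.comp_apply]
    exact (map_eq_zero_iff cF.toRingHom cF.toRingHom.injective).trans Ideal.algebraMap_residueField_eq_zero
  · -- clear denominators
    let η : MvPolynomial ι k ⊗[k] M →ₐ[k] RatF ι k ⊗[k] M :=
      Algebra.TensorProduct.map (IsScalarTower.toAlgHom k _ _) (AlgHom.id k M)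
    obtain ⟨d, p, hd, hp⟩ : ∃ (d : MvPolynomial ι k) (p : MvPolynomial ι k ⊗[k] M), d ≠ 0 ∧
        (algebraMap _ (RatF ι k) d ⊗ₜ (1 : M)) * z = η p := by
      clear hz
      induction z using TensorProduct.induction_on with
      | zero => exact ⟨1, 0, one_ne_zero, by simp⟩
      | tmul a m =>
        obtain ⟨⟨n, d⟩, hd⟩ := IsLocalization.surj (nonZeroDivisors (MvPolynomial ι k)) a
        exact ⟨d, n ⊗ₜ m, nonZeroDivisors.ne_zero d.2, by simp [η, ← hd, mul_comm]⟩
      | add x y hx hy =>
        obtain ⟨d₁, p₁, h₁, e₁⟩ := hx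
        obtain ⟨d₂, p₂, h₂, e₂⟩ := hy
        refine ⟨d₁ * d₂, (d₂ ⊗ₜ 1) * p₁ + (d₁ ⊗ₜ 1) * p₂, mul_ne_zero h₁ h₂, ?_⟩
        rw [map_add, map_mul η, map_mul η, ← e₁, ← e₂, map_mul (algebraMap (MvPolynomial ι k) (RatF ι k))]
        simp only [η, Algebra.TensorProduct.map_tmul, map_one, IsScalarTower.coe_toAlgHom']
        rw [show (algebraMap _ (RatF ι k) d₁ * algebraMap _ (RatF ι k) d₂) ⊗ₜ[k] (1 : M) =
          (algebraMap _ (RatF ι k) d₁ ⊗ₜ 1) * (algebraMap _ (RatF ι k) d₂ ⊗ₜ 1) by simp]
        ring
    let g : RatF ι k ⊗[k] M →ₐ[k] RatF ι F :=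
      h.comp (Algebra.TensorProduct.map (ratFMap k ι (Algebra.ofId k L)) (AlgHom.id k M))
    have hg : g z = 0 := hz
    have h0 : g (η p) = 0 := by rw [← hp, map_mul, hg, mul_zero]
    let P := tensorPolyHom k M ι
    have e : g.comp η = ((IsScalarTower.toAlgHom k (MvPolynomial ι F) (RatF ι F)).comp
        (MvPolynomial.mapAlgHom ρM)).comp P := by
      apply Algebra.TensorProduct.ext
      · refine MvPolynomial.algHom_ext fun i => ?_
        simp only [g, h, η, P, AlgHom.comp_apply, Algebra.TensorProduct.includeLeft_apply,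
          Algebra.TensorProduct.map_tmul, Algebra.TensorProduct.lift_tmul, map_one, mul_one,
          IsScalarTower.coe_toAlgHom', tensorPolyHom_tmul, MvPolynomial.mapAlgHom_apply]
        rw [ratFMap_algebraMap, ratFMap_algebraMap]
        simp only [MvPolynomial.map_X, RingHom.coe_coe, MvPolynomial.C_1, mul_one]
      · refine AlgHom.ext fun m => ?_
        simp only [g, h, η, P, AlgHom.comp_apply, Algebra.TensorProduct.includeRight_apply,
          AlgHom.restrictScalars_apply,
          Algebra.TensorProduct.map_tmul, Algebra.TensorProduct.lift_tmul, map_one, one_mul,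
          IsScalarTower.coe_toAlgHom', tensorPolyHom_tmul, MvPolynomial.mapAlgHom_apply, AlgHom.coe_id, id_eq]
        simp only [cF, IsScalarTower.coe_toAlgHom', MvPolynomial.map_C, RingHom.coe_coe]
        rw [← MvPolynomial.algebraMap_eq, ← IsScalarTower.algebraMap_apply]
    rw [← AlgHom.comp_apply, e, AlgHom.comp_apply, AlgHom.comp_apply] at h0
    have hp0 : p = 0 := tensorPolyHom_injective k M ι (by
      rw [map_zero]
      exact MvPolynomial.map_injective _ ρM.injective (((map_eq_zero_iff _
        (IsFractionRing.injective (MvPolynomial ι F) (RatF ι F))).1 h0).trans (map_zero _).symm))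
    rw [hp0, map_zero] at hp
    exact (IsUnit.mul_right_eq_zero ((isUnit_iff_ne_zero.2 ((map_ne_zero_iff _
      (IsFractionRing.injective (MvPolynomial ι k) (RatF ι k))).2 hd)).map
        (Algebra.TensorProduct.includeLeft : RatF ι k →ₐ[k] RatF ι k ⊗[k] M))).1 hp

end Algebra

theorem isAffineHom_specMap {A B : CommRingCat.{u}} (f : A ⟶ B) : IsAffineHom (Spec.map f) := inferInstance

section Geometry

variable {L κ : Type u} [Field L] [Field κ] [Algebra k L] [Algebra k κ] (X : Space (Spec (CommRingCat.of k)))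
  (g : (yon _).obj (extObj k κ) ⟶ X.obj)

/-- The scheme covering the fibre. -/
noncomputable abbrev fibRo (k L κ : Type u) [Field k] [Field L] [Field κ] [Algebra k L] [Algebra k κ] :
    Over (Spec (CommRingCat.of k)) :=
  Over.mk (Spec.map (CommRingCat.ofHom (algebraMap k (L ⊗[k] κ))))

/-- The projection to the field of the point. -/
noncomputable def fibM : fibRo k L κ ⟶ extObj k κ :=
  Over.homMk (Spec.map (CommRingCat.ofHom (Algebra.TensorProduct.includeRight (R := k) (A := L) (B := κ)).toRingHom)) (by
    refine (Spec.map_comp _ _).symm.trans (congrArg Spec.map (CommRingCat.hom_ext (RingHom.ext fun r => ?_)))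
    exact (Algebra.TensorProduct.includeRight (R := k) (A := L) (B := κ)).commutes r)

/-- The projection to the extension. -/
noncomputable def fibL : fibRo k L κ ⟶ extObj k L :=
  Over.homMk (Spec.map (CommRingCat.ofHom (Algebra.TensorProduct.includeLeftRingHom))) (by
    refine (Spec.map_comp _ _).symm.trans (congrArg Spec.map (CommRingCat.hom_ext (RingHom.ext fun r => ?_)))
    rfl)

/-- The map onto the fibre. -/
noncomputable def fibMap : (yon _).obj (fibRo k L κ) ⟶ X.obj ⨯ (yon _).obj (extObj k L) :=
  prod.lift ((yon _).map (fibM (L := L)) ≫ g) ((yon _).map fibL)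

theorem fibMap_fst (r : (fibRo k L κ).left) :
    Points.map prod.fst (Points.ofPt (fibMap (L := L) X g) r) = Points.ofPt g (IsLocalRing.closedPoint κ) := by
  have hKs : Subsingleton (extObj k κ).left := inferInstanceAs (Subsingleton (PrimeSpectrum κ))
  rw [Points.map_ofPt, fibMap, prod.lift_fst, ofPt_map_comp]
  exact congrArg _ (Subsingleton.elim _ _)

theorem fibMap_surj (f : Points (X.obj ⨯ (yon _).obj (extObj k L)))
    (hf : Points.map prod.fst f = Points.ofPt g (IsLocalRing.closedPoint κ)) :
    ∃ r, Points.ofPt (fibMap (L := L) X g) r = f := by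
  let S := Spec (CommRingCat.of k)
  let hT := LimSepAbs.isTerminalBase (S := S)
  let Lo := extObj k L
  let Ko := extObj k κ
  have sR : IsPullback ((yon S).map (fibL (L := L) (κ := κ))) ((yon S).map (fibM (L := L))) (hT.from _) (hT.from _) := by
    have h0 : IsPullback (fibL (L := L) (κ := κ)) (fibM (L := L)) (Over.homMk Lo.hom (Category.comp_id _) : Lo ⟶ Over.mk (𝟙 S))
        (Over.homMk Ko.hom (Category.comp_id _) : Ko ⟶ Over.mk (𝟙 S)) := by
      refine IsPullback.of_map (Over.forget S) (Over.OverMorphism.ext ((Over.w fibL).trans (Over.w (fibM (L := L))).symm)) ?_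
      exact isPullback_SpecMap_of_isPushout _ _ _ _ (CommRingCat.isPushout_tensorProduct k L κ)
    have h1 := h0.map (yon S)
    rwa [hT.hom_ext ((yon S).map _) (hT.from _), hT.hom_ext ((yon S).map (Over.homMk Ko.hom _ : Ko ⟶ _)) (hT.from _)] at h1
  have sF : IsPullback (fibMap (L := L) X g) ((yon S).map fibM) prod.fst g := by
    refine IsPullback.of_right (h₁₂ := prod.snd) (h₂₂ := hT.from X.obj) (v₁₃ := hT.from _) ?_
      (prod.lift_fst _ _) (IsPullback.of_is_product (prodIsProd X.obj ((yon S).obj Lo)) hT).flip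
    rw [fibMap, prod.lift_snd, hT.hom_ext (g ≫ _) (hT.from _)]
    exact sR
  obtain ⟨q, hq, -⟩ := exists_of_isPullback sF f (Points.ofScheme Ko (IsLocalRing.closedPoint κ))
    (by rw [← Points.ofPt_eq_map_ofScheme]; exact hf)
  exact ⟨Points.toScheme _ q, by rw [Points.ofPt_eq_map_ofScheme, Points.ofScheme_toScheme, hq]⟩

/-- The map of extension objects given by a homomorphism. -/
noncomputable def extHom {L L' : Type u} [Field L] [Field L'] [Algebra k L] [Algebra k L'] (φ : L →ₐ[k] L') :
    extObj k L' ⟶ extObj k L :=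
  Over.homMk (Spec.map (CommRingCat.ofHom φ.toRingHom))
    ((Spec.map_comp _ _).symm.trans (congrArg Spec.map (CommRingCat.hom_ext (RingHom.ext φ.commutes))))

theorem fibMap_natural {L' : Type u} [Field L'] [Algebra k L'] (φ : L →ₐ[k] L') (r : (fibRo k L' κ).left) :
    Points.map (prod.map (𝟙 X.obj) ((yon _).map (extHom φ))) (Points.ofPt (fibMap (L := L') X g) r) =
      Points.ofPt (fibMap (L := L) X g)
        (PrimeSpectrum.comap (Algebra.TensorProduct.map φ (AlgHom.id k κ)).toRingHom r) := by
  let m : fibRo k L' κ ⟶ fibRo k L κ :=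
    Over.homMk (Spec.map (CommRingCat.ofHom (Algebra.TensorProduct.map φ (AlgHom.id k κ)).toRingHom))
      ((Spec.map_comp _ _).symm.trans (congrArg Spec.map (CommRingCat.hom_ext
        (RingHom.ext (Algebra.TensorProduct.map φ (AlgHom.id k κ)).commutes))))
  have e : fibMap (L := L') X g ≫ prod.map (𝟙 X.obj) ((yon _).map (extHom φ)) = (yon _).map m ≫ fibMap (L := L) X g := by
    apply prod.hom_ext
    · simp only [fibMap, Category.assoc, prod.map_fst, prod.lift_fst, prod.lift_fst_assoc, Category.comp_id]
      rw [← Functor.map_comp_assoc]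
      congr 2
      apply Over.OverMorphism.ext
      change Spec.map _ = Spec.map _ ≫ Spec.map _
      rw [← Spec.map_comp]
      exact congrArg Spec.map (CommRingCat.hom_ext (RingHom.ext fun a => by simp))
    · simp only [fibMap, Category.assoc, prod.map_snd, prod.lift_snd, prod.lift_snd_assoc]
      rw [← Functor.map_comp, ← Functor.map_comp]
      congr 1
      apply Over.OverMorphism.ext
      change Spec.map _ ≫ Spec.map _ = Spec.map _ ≫ Spec.map _
      rw [← Spec.map_comp, ← Spec.map_comp]
      exact congrArg Spec.map (CommRingCat.hom_ext (RingHom.ext fun a => by simp))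
  rw [Points.map_ofPt, e, ofPt_map_comp]
  rfl

set_option maxHeartbeats 1600000 in
/-- A quasi-separated space which becomes a scheme over a purely transcendental extension is a scheme. -/
theorem isRepresentable_of_ratF (ι : Type u) (hqs : IsQuasiSeparatedSp X.obj)
    (h : (X.obj ⨯ (yon _).obj (extObj k (RatF ι k))).obj.IsRepresentable) : X.obj.obj.IsRepresentable := by
  classical
  let S := Spec (CommRingCat.of k)
  refine isRepresentable_of_forall_nhd X fun x => ?_
  obtain ⟨T, ⟨e⟩⟩ := exists_iso_of_isRepresentable h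
  obtain ⟨p, hp⟩ := exists_eq_ofPt_toHom x
  obtain ⟨κ', hκ⟩ := Spec.map_surjective (R := CommRingCat.of k) (S := CommRingCat.of p.K) p.str
  let : Algebra k p.K := κ'.hom.toAlgebra
  let i : extObj k p.K ⟶ p.pt := Over.homMk (𝟙 _) (by
    change _ ≫ p.str = _
    rw [Category.id_comp, ← hκ]; rfl)
  let g : (yon S).obj (extObj k p.K) ⟶ X.obj := (yon S).map i ≫ p.toHom
  have hx : Points.ofPt g (IsLocalRing.closedPoint p.K) = x := by rw [ofPt_map_comp, hp]
  let L := AlgebraicClosure k
  let Ω := RatF ι L
  let ψ₂ : L →ₐ[k] Ω := IsScalarTower.toAlgHom k L Ω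
  let ψ₁ : RatF ι k →ₐ[k] Ω := ratFMap k ι (Algebra.ofId k L)
  let ζ := extHom ψ₁
  -- the generic point of the fibre
  obtain ⟨f₀⟩ : Nonempty (PrimeSpectrum (L ⊗[k] p.K)) := inferInstance
  obtain ⟨q₀, -, hq₀⟩ := exists_generic_prime (ι := ι) f₀
  let y₀ := Points.ofPt (fibMap (L := RatF ι k) X g)
    (PrimeSpectrum.comap (Algebra.TensorProduct.map ψ₁ (AlgHom.id k p.K)).toRingHom q₀)
  -- an affine open around it
  obtain ⟨V, hV, hyV, -⟩ := exists_isAffineOpen_mem_and_subset
    (x := Points.toScheme T (Points.map e.inv y₀)) (U := ⊤) trivial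
  let Vo : Over S := Over.mk (V.ι ≫ T.hom)
  have : IsAffine Vo.left := hV
  let iV : Vo ⟶ T := Over.homMk V.ι rfl
  let jV : (yon S).obj Vo ⟶ X.obj ⨯ (yon S).obj (extObj k (RatF ι k)) := (yon S).map iV ≫ e.hom
  have hjV : RepWith @IsOpenImmersion jV :=
    (MorphismProperty.cancel_right_of_respectsIso (RepWith @IsOpenImmersion : MorphismProperty (Sp _)) _ _).2
      ((repWith_yon_map_iff _ iV).2 (inferInstanceAs (IsOpenImmersion V.ι)))
  let m := prod.map (𝟙 X.obj) ((yon S).map ζ)
  have hm : RepWith @IsAffineHom m :=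
    MorphismProperty.of_isPullback (isPullback_prod_snd X.obj ((yon S).map ζ))
      ((repWith_yon_map_iff _ ζ).2 (isAffineHom_specMap _))
  obtain ⟨W, snd, fst, sq⟩ := hm.1 jV
  have : IsAffineHom snd.left := hm.2 _ _ _ sq
  have : IsAffine W.left := isAffine_of_isAffineHom snd.left
  let φ : extObj k Ω ⟶ extObj k L := extHom ψ₂
  obtain ⟨U, a, hU, ha, hfib⟩ := exists_affine_fibre (L := L) (Ω := Ω) X hqs x φ (Iso.refl _)
    (by rw [Iso.refl_hom, Category.id_comp]; rfl) fst (MorphismProperty.of_isPullback sq.flip hjV) fun f hf => by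
      obtain ⟨r, rfl⟩ := fibMap_surj X g f (by rw [hx, hf])
      obtain ⟨q, hq₁, hq₂⟩ := exists_generic_prime (ι := ι) (r : PrimeSpectrum (L ⊗[k] p.K))
      let P := Points.ofPt (fibMap (L := Ω) X g) q
      have hPy : Points.map m P = y₀ := by
        rw [fibMap_natural]
        refine congrArg _ (PrimeSpectrum.ext (Ideal.ext fun z => ?_))
        constructor
        · intro hz; rw [hq₂ z hz]; exact Submodule.zero_mem _
        · intro hz; rw [hq₀ z hz]; exact Submodule.zero_mem _
      obtain ⟨w, hw, -⟩ := exists_of_isPullback sq P (Points.ofScheme Vo ⟨_, hyV⟩) (by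
        rw [← Points.ofPt_eq_map_ofScheme, hPy, ofPt_map_comp, Points.ofPt_eq_map_ofScheme]
        change y₀ = Points.map e.hom (Points.ofScheme T (Points.toScheme T (Points.map e.inv y₀)))
        rw [Points.ofScheme_toScheme, ← Points.map_comp, e.inv_hom_id, Points.map_id])
      refine ⟨w, ?_⟩
      rw [Points.map_comp, hw, fibMap_natural]
      exact congrArg _ hq₁
  exact exists_scheme_nhd_of_affine_fibre X hqs x a ha hfib

end Geometry

end Groth.Agent.AlgSpB.GrpField
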